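import Cfsg.Agent.SelfCentEight.Sound

/-!
# The sites of Alperin's induction at a certified table, and the focal subgroup
-/

set_option autoImplicit false
set_option linter.style.haveILetI false
set_option linter.unusedSectionVars false

namespace Cfsg.Lib.SelfCentEight

open scoped commutatorElement
open Subgroup Cfsg Cfsg.FusionSystem Cfsg.Lib.Fusion Cfsg.Lib.LenSeven

universe u

variable {G : Type u} [Group G]

namespace Tab

variable {P : Subgroup G} (t : Tab P)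

/-- `α` stabilises the series of masks starting at `K`. -/
def Stab (Q : Subgroup G) (α : MulAut Q) : ℕ → List ℕ → Prop
  | _, [] => True
  | K, K' :: ks =>
    (∀ i < 64, K.testBit i = true → ∀ h : t.φ i ∈ Q, ∃ j < 64, K'.testBit j = true ∧
      ((α ⟨t.φ i, h⟩ : Q) : G) = t.φ i * t.φ j) ∧ Stab Q α K' ks

/-- Every mask of the series is invariant and closed, and each contains the next; the last is trivial. -/
def Series (Q : Subgroup G) : ℕ → List ℕ → Prop
  | K, [] => K = 1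
  | K, K' :: ks =>
    (∀ β : MulAut Q, ∀ i < 64, K'.testBit i = true → ∀ h : t.φ i ∈ Q, ∀ j < 64,
      t.φ j = (β ⟨t.φ i, h⟩ : Q) → K'.testBit j = true) ∧
    (∀ i < 64, ∀ j < 64, K'.testBit i = true → K'.testBit j = true → K'.testBit (tm t.T i j) = true) ∧
    (∀ i < 64, K'.testBit i = true → K.testBit i = true) ∧ Series Q K' ks

variable [Finite G]

theorem series_of_chainOk {Q : Subgroup G} (hQ : Q ≤ P) {c : Cert} (hm : t.Rep c.mask Q)
    (hc : colOk t.T c = true) : ∀ ks : List ℕ, ∀ K, chainOk t.T t.I c K ks = true →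
      (∀ i < 64, K.testBit i = true → c.mask.testBit i = true) → t.Series Q K ks
  | [], K, h, _ => by simpa [chainOk, Series] using h
  | K' :: ks, K, h, hKQ => by
    simp only [chainOk, Bool.and_eq_true] at h
    obtain ⟨⟨⟨⟨hs, hcl⟩, -⟩, hsub⟩, hrest⟩ := h
    have hsub' : ∀ i < 64, K'.testBit i = true → K.testBit i = true := fun i hi hiK =>
      List.all_eq_true.1 hsub i (mem_members.2 ⟨hi, hiK⟩)
    refine ⟨fun β i hi hiK h j hj e => ?_, fun i hi j hj hiK hjK => ?_, hsub',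
      series_of_chainOk hQ hm hc ks K' hrest fun i hi h => hKQ i hi (hsub' i hi h)⟩
    · have him : c.mask.testBit i = true := (hm i hi).2 h
      have hjm : c.mask.testBit j = true := (hm j hj).2 (e ▸ (β ⟨t.φ i, h⟩).2)
      rw [t.sep_invariant hQ hm hc hs β (mem_members.2 ⟨hi, him⟩) (mem_members.2 ⟨hj, hjm⟩) (fun _ => e), hiK]
    · simp only [closed, List.all_eq_true] at hcl
      exact hcl i (mem_members.2 ⟨hi, hiK⟩) j (mem_members.2 ⟨hj, hjK⟩)

theorem stab_mul {Q : Subgroup G} (hQ : Q ≤ P) {α β : MulAut Q} : ∀ ks : List ℕ, ∀ K, t.Series Q K ks →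
    (∀ γ : MulAut Q, ∀ i < 64, K.testBit i = true → ∀ h : t.φ i ∈ Q, ∀ j < 64,
      t.φ j = (γ ⟨t.φ i, h⟩ : Q) → K.testBit j = true) →
    t.Stab Q α K ks → t.Stab Q β K ks → t.Stab Q (α * β) K ks
  | [], _, _, _, _, _ => trivial
  | K' :: ks, K, hS, hK, ⟨ha, ha'⟩, ⟨hb, hb'⟩ => by
    refine ⟨fun i hi hiK h => ?_, stab_mul hQ ks K' hS.2.2.2 hS.1 ha' hb'⟩
    obtain ⟨j, hj, hjK, ej⟩ := hb i hi hiK h
    obtain ⟨k, hk, ek⟩ := t.surj _ (hQ (β ⟨t.φ i, h⟩).2)
    have hkQ : t.φ k ∈ Q := ek ▸ (β ⟨t.φ i, h⟩).2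
    obtain ⟨l, hl, hlK, el⟩ := ha k hk (hK β i hi hiK h k hk ek) hkQ
    refine ⟨tm t.T j l, tm_lt _ _ _, hS.2.1 j hj l hl hjK hlK, ?_⟩
    rw [MulAut.mul_apply, show β ⟨t.φ i, h⟩ = ⟨t.φ k, hkQ⟩ from Subtype.ext ek.symm, el, ek, ej, t.mul j hj l hl,
      mul_assoc]

theorem stab_one {Q : Subgroup G} : ∀ ks : List ℕ, ∀ K, t.Series Q K ks → t.Stab Q 1 K ks
  | [], _, _ => trivial
  | K' :: ks, _, hS => by
    refine ⟨fun i hi hiK h => ⟨0, by norm_num, ?_, by simp [t.one]⟩, stab_one ks K' hS.2.2.2⟩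
    have last : ∀ ks : List ℕ, ∀ K, t.Series Q K ks → K.testBit 0 = true := by
      intro ks
      induction ks with
      | nil => intro K h; rw [show K = 1 from h]; rfl
      | cons K' ks ih => intro K h; exact h.2.2.1 0 (by norm_num) (ih K' h.2.2.2)
    exact last ks K' hS.2.2.2

theorem stab_pow {Q : Subgroup G} (hQ : Q ≤ P) {α : MulAut Q} {K : ℕ} {ks : List ℕ} (hS : t.Series Q K ks)
    (hK : ∀ γ : MulAut Q, ∀ i < 64, K.testBit i = true → ∀ h : t.φ i ∈ Q, ∀ j < 64,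
      t.φ j = (γ ⟨t.φ i, h⟩ : Q) → K.testBit j = true) (ha : t.Stab Q α K ks) :
    ∀ n : ℕ, t.Stab Q (α ^ n) K ks
  | 0 => by rw [pow_zero]; exact t.stab_one ks K hS
  | n + 1 => by rw [pow_succ]; exact t.stab_mul hQ ks K hS hK (stab_pow hQ hS hK ha n) ha

theorem stab_conj {Q : Subgroup G} (hQ : Q ≤ P) {α γ : MulAut Q} : ∀ ks : List ℕ, ∀ K, t.Series Q K ks →
    (∀ δ : MulAut Q, ∀ i < 64, K.testBit i = true → ∀ h : t.φ i ∈ Q, ∀ j < 64,
      t.φ j = (δ ⟨t.φ i, h⟩ : Q) → K.testBit j = true) →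
    t.Stab Q α K ks → t.Stab Q (γ * α * γ⁻¹) K ks
  | [], _, _, _, _ => trivial
  | K' :: ks, K, hS, hK, ⟨ha, ha'⟩ => by
    refine ⟨fun i hi hiK h => ?_, stab_conj hQ ks K' hS.2.2.2 hS.1 ha'⟩
    obtain ⟨k, hk, ek⟩ := t.surj _ (hQ (γ⁻¹ ⟨t.φ i, h⟩).2)
    have hkQ : t.φ k ∈ Q := ek ▸ (γ⁻¹ ⟨t.φ i, h⟩).2
    obtain ⟨j, hj, hjK, ej⟩ := ha k hk (hK γ⁻¹ i hi hiK h k hk ek) hkQ
    have hjQ : t.φ j ∈ Q := by
      have := Q.mul_mem (Q.inv_mem hkQ) (α ⟨t.φ k, hkQ⟩).2
      rwa [ej, inv_mul_cancel_left] at this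
    obtain ⟨l, hl, el⟩ := t.surj _ (hQ (γ ⟨t.φ j, hjQ⟩).2)
    refine ⟨l, hl, hS.1 γ j hj hjK hjQ l hl el, ?_⟩
    rw [MulAut.mul_apply, MulAut.mul_apply, show γ⁻¹ ⟨t.φ i, h⟩ = ⟨t.φ k, hkQ⟩ from Subtype.ext ek.symm,
      show α ⟨t.φ k, hkQ⟩ = ⟨t.φ k, hkQ⟩ * ⟨t.φ j, hjQ⟩ from Subtype.ext ej, map_mul, Subgroup.coe_mul, ← el,
      show (⟨t.φ k, hkQ⟩ : Q) = γ⁻¹ ⟨t.φ i, h⟩ from Subtype.ext ek]
    simp

theorem pow_sixtyfour (hP : Nat.card P = 64) {y : G} (hy : y ∈ P) : y ^ 64 = 1 := by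
  have h := pow_card_eq_one' (G := P) (x := ⟨y, hy⟩)
  rw [hP] at h
  exact congrArg Subtype.val h

/-- An automorphism stabilising a series has two-power order on it. -/
theorem stab_fix (hP : Nat.card P = 64) {Q : Subgroup G} (hQ : Q ≤ P) : ∀ ks : List ℕ, ∀ K, t.Series Q K ks →
    (∀ γ : MulAut Q, ∀ i < 64, K.testBit i = true → ∀ h : t.φ i ∈ Q, ∀ j < 64,
      t.φ j = (γ ⟨t.φ i, h⟩ : Q) → K.testBit j = true) →
    ∀ α : MulAut Q, t.Stab Q α K ks → ∀ i < 64, K.testBit i = true → ∀ h : t.φ i ∈ Q,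
      (α ^ (64 ^ ks.length)) ⟨t.φ i, h⟩ = ⟨t.φ i, h⟩
  | [], K, hS, _, α, _, i, hi, hiK, h => by
    rw [show K = 1 from hS, Nat.testBit_one_eq_true_iff_self_eq_zero] at hiK
    subst hiK
    rw [show (⟨t.φ 0, h⟩ : Q) = 1 from Subtype.ext t.one, map_one]
  | K' :: ks, K, hS, hK, α, hα, i, hi, hiK, h => by
    set n := 64 ^ ks.length with hn
    obtain ⟨hp1, -⟩ := t.stab_pow hQ hS hK hα n
    obtain ⟨j, hj, hjK, ej⟩ := hp1 i hi hiK h
    have hjQ : t.φ j ∈ Q := by
      have := Q.mul_mem (Q.inv_mem h) ((α ^ n) ⟨t.φ i, h⟩).2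
      rwa [ej, inv_mul_cancel_left] at this
    have hfix := stab_fix hP hQ ks K' hS.2.2.2 hS.1 α hα.2 j hj hjK hjQ
    have e : ∀ m : ℕ, ((α ^ n) ^ m) ⟨t.φ i, h⟩ = ⟨t.φ i, h⟩ * (⟨t.φ j, hjQ⟩ : Q) ^ m := by
      intro m
      induction m with
      | zero => simp
      | succ m ih =>
        rw [pow_succ' (α ^ n), MulAut.mul_apply, ih, map_mul, map_pow, hfix, pow_succ' (⟨t.φ j, hjQ⟩ : Q),
          ← mul_assoc]
        congr 1
        exact Subtype.ext ej
    rw [List.length_cons, pow_succ, pow_mul, e 64,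
      show (⟨t.φ j, hjQ⟩ : Q) ^ 64 = 1 from Subtype.ext (pow_sixtyfour hP (hQ hjQ)), mul_one]

end Tab

variable [Finite G]

/-- The automorphisms at a site of order eight with normalizer of index four are good. -/
theorem not_bad_eight {S : Sylow 2 G} {Φ : Subgroup G → (G → G) → Prop} {Q : Subgroup G} (B : Bad S Φ Q)
    (h8 : Nat.card Q = 8) (hsq : ∀ q ∈ Q, q * q = 1)
    (hN : Nat.card ↥((S : Subgroup G) ⊓ normalizer (Q : Set G)) = 32) : False := by
  haveI : Fact (Nat.Prime 2) := ⟨Nat.prime_two⟩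
  have hV : ∀ v : Q, v * v = 1 := fun v => Subtype.ext (hsq v v.2)
  have hab : ∀ a ∈ Q, ∀ b ∈ Q, a * b = b * a := fun a ha b hb =>
    congrArg Subtype.val (cm hV ⟨a, ha⟩ ⟨b, hb⟩)
  have hT : Nat.card (autInducedBy (S : Subgroup G) Q) = 4 := by
    have := B.card_autS hab
    rw [h8, hN] at this
    omega
  have hinn : ∀ β : MulAut Q, β ∈ Inn Q → β = 1 := by
    rintro _ ⟨q, rfl⟩
    refine MulEquiv.ext fun x => ?_
    show q * x * q⁻¹ = x
    rw [cm hV q x, mul_inv_cancel_right]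
  obtain ⟨α, hα, hout⟩ := B.conj_out
  exact four_conj hV h8.le (B.not_dvd (n := 3) (by rw [hT]; norm_num)) (autInducedBy_le B.le) hT hα
    fun s hs _ hs1 => hout s hs fun hi => hs1 (hinn s hi)

namespace Tab

variable {S : Sylow 2 G} (t : Tab (S : Subgroup G))

/-- Every automorphism at every site keeps the parity. -/
theorem good_site (hP : Nat.card (S : Subgroup G) = 64) {E : ℕ} (hE : parityOk t.T E = true) {Q : Subgroup G}
    (K : Cand S Q)
    (hIH : ∀ (T : Subgroup G) (f : G → G), Nat.card Q < Nat.card T →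
      IsMap (groupFusionSystem (S : Subgroup G)) T f → t.Good E T f)
    {c : Cert} (hm : t.Rep c.mask Q) (hc : siteOk t.T t.I E c = true) :
    ∀ α ∈ (groupFusionSystem (S : Subgroup G)).autGroup Q, t.Good E Q (autFun α) := by
  intro α hα
  by_contra hbad
  have B : Bad S (t.Good E) Q := ⟨K, t.isMapClass hE, hIH, α, hα, hbad⟩
  have hQ : Q ≤ (S : Subgroup G) := K.le
  obtain ⟨x, hx, hpar⟩ : ∃ x : G, ∃ hx : x ∈ Q, ¬ (t.Par E ((α ⟨x, hx⟩ : Q) : G) ↔ t.Par E x) := by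
    by_contra h
    push Not at h
    exact hbad fun x hx => by rw [autFun_apply_mem α hx]; exact h x hx
  obtain ⟨i, hi, rfl⟩ := t.surj x (hQ hx)
  obtain ⟨j, hj, ej⟩ := t.surj _ (hQ (α ⟨_, hx⟩).2)
  rw [← ej, t.par_phi hj, t.par_phi hi] at hpar
  have him : i ∈ members c.mask := mem_members.2 ⟨hi, (hm i hi).2 hx⟩
  have hjm : j ∈ members c.mask := mem_members.2 ⟨hj, (hm j hj).2 (ej ▸ (α ⟨_, hx⟩).2)⟩
  unfold siteOk at hc
  split_ifs at hc with h0 h1 h2
  · simp only [trivSite, Bool.or_eq_true, beq_iff_eq, List.all_eq_true, List.any_eq_true, List.mem_range,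
      Bool.and_eq_true, Bool.not_eq_true'] at hc
    rcases hc with (hfull | hsub) | ⟨g, hg, hgm, hcomm⟩
    · refine K.lt.not_ge fun y hy => ?_
      obtain ⟨k, hk, rfl⟩ := t.surj y hy
      refine (hm k hk).1 ?_
      rw [hfull]
      exact Nat.testBit_two_pow_sub_one 64 k |>.trans (by simp [hk])
    · exact hpar (iff_of_true (hsub j hjm) (hsub i him))
    · have hgQ : t.φ g ∈ Q := K.self (t.mem g) fun q hq => by
        obtain ⟨k, hk, rfl⟩ := t.surj q (hQ hq)
        exact (t.comm_iff hg hk).1 (hcomm k (mem_members.2 ⟨hk, (hm k hk).2 hq⟩))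
      rw [(hm g hg).2 hgQ] at hgm
      exact Bool.noConfusion hgm
  · simp only [Bool.and_eq_true] at hc
    exact hpar (by rw [t.sep_invariant hQ hm hc.1 hc.2 α him hjm fun _ => ej])
  · simp only [Bool.and_eq_true, decide_eq_true_eq, Bool.not_eq_true', List.all_eq_true] at hc
    obtain ⟨⟨⟨⟨hcol, hg⟩, hgm⟩, hnorm⟩, hch⟩ := hc
    have hser := t.series_of_chainOk hQ hm hcol c.chain c.mask hch fun _ _ h => h
    have htop : ∀ γ : MulAut Q, ∀ i < 64, c.mask.testBit i = true → ∀ h : t.φ i ∈ Q, ∀ j < 64,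
        t.φ j = (γ ⟨t.φ i, h⟩ : Q) → c.mask.testBit j = true :=
      fun γ i _ _ h j hj e => (hm j hj).2 (e ▸ (γ ⟨t.φ i, h⟩).2)
    set F := (groupFusionSystem (S : Subgroup G)).autGroup Q with hF
    let H : Subgroup (MulAut Q) :=
      { carrier := {β | β ∈ F ∧ t.Stab Q β c.mask c.chain}
        one_mem' := ⟨one_mem F, t.stab_one _ _ hser⟩
        mul_mem' := fun ha hb => ⟨mul_mem ha.1 hb.1, t.stab_mul hQ _ _ hser htop ha.2 hb.2⟩
        inv_mem' := fun {β} hb => by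
          refine ⟨inv_mem hb.1, ?_⟩
          have hfo : IsOfFinOrder β := isOfFinOrder_of_finite β
          obtain ⟨n, hn⟩ := hfo.mem_powers_iff_mem_zpowers.2 ((zpowers β).inv_mem (mem_zpowers β))
          rw [← show β ^ n = β⁻¹ from hn]
          exact t.stab_pow hQ hser htop hb.2 n }
    have hgn : t.φ c.g ∈ normalizer (Q : Set G) := mem_normalizer_of_maps_finite fun v hv => by
      obtain ⟨k, hk, rfl⟩ := t.surj v (hQ hv)
      rw [← t.phi_cj hg hk]
      exact (hm _ (tm_lt _ _ _)).1 (hnorm k (mem_members.2 ⟨hk, (hm k hk).2 hv⟩))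
    set β := conjAut Q (t.φ c.g) hgn with hβ
    have hstab : ∀ ks : List ℕ, ∀ K : ℕ, chainOk t.T t.I c K ks = true → t.Stab Q β K ks := by
      intro ks
      induction ks with
      | nil => intro K _; trivial
      | cons K' ks ih =>
        intro K h
        simp only [chainOk, Bool.and_eq_true, List.all_eq_true] at h
        refine ⟨fun k hk hkK hkQ => ⟨_, tm_lt _ _ _, h.1.1.2 k (mem_members.2 ⟨hk, hkK⟩), ?_⟩, ih K' h.2⟩
        rw [hβ, conjAut_apply, t.mul _ (iv_lt _ _) (cj t.T t.I c.g k) (tm_lt _ _ _), t.phi_iv hk, t.phi_cj hg hk]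
        group
    have hp : IsPGroup 2 H := fun γ => ⟨6 * c.chain.length, Subtype.ext (MulEquiv.ext fun y => by
      obtain ⟨k, hk, ek⟩ := t.surj _ (hQ y.2)
      have hkQ : t.φ k ∈ Q := ek ▸ y.2
      rw [show y = ⟨t.φ k, hkQ⟩ from Subtype.ext ek.symm, pow_mul, show (2 : ℕ) ^ 6 = 64 by norm_num,
        Subgroup.coe_pow]
      exact t.stab_fix hP hQ _ _ hser htop γ γ.2.2 k hk ((hm k hk).2 hkQ) hkQ)⟩
    have hle := B.rad H (fun _ h => h.1) hp fun a ha b hb => ⟨mul_mem (mul_mem ha hb.1) (inv_mem ha),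
      t.stab_conj hQ _ _ hser htop hb.2⟩
    obtain ⟨q, hq⟩ := hle (show β ∈ H from
      ⟨autInducedBy_le hQ (conjAut_mem_autInducedBy hgn (t.mem _)), hstab _ _ hch⟩)
    have hqg : (q : G)⁻¹ * t.φ c.g ∈ Q := K.self (mul_mem (inv_mem (hQ q.2)) (t.mem _)) fun v hv => by
      have h := congrArg (fun δ : MulAut Q => ((δ ⟨v, hv⟩ : Q) : G)) hq
      replace h : (q : G) * v * (q : G)⁻¹ = t.φ c.g * v * (t.φ c.g)⁻¹ := h
      show (q : G)⁻¹ * t.φ c.g * v = v * ((q : G)⁻¹ * t.φ c.g)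
      rw [mul_assoc, mul_inv_eq_iff_eq_mul.1 h.symm]
      group
    have hgQ : t.φ c.g ∈ Q := by simpa using Q.mul_mem q.2 hqg
    rw [(hm _ hg).2 hgQ] at hgm
    exact Bool.noConfusion hgm
  · simp only [eSite, Bool.and_eq_true, beq_iff_eq, List.all_eq_true] at hc
    obtain ⟨⟨h8, hsq⟩, hN⟩ := hc
    refine not_bad_eight B ((t.card_eq hQ hm).trans h8) (fun q hq => ?_) ?_
    · obtain ⟨k, hk, rfl⟩ := t.surj q (hQ hq)
      rw [← t.mul k hk k hk, hsq k (mem_members.2 ⟨hk, (hm k hk).2 hq⟩), t.one]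
    · classical
      have hrep : ∀ g < 64, t.φ g ∈ (S : Subgroup G) ⊓ normalizer (Q : Set G) ↔
          ((members c.mask).all fun h => c.mask.testBit (cj t.T t.I g h)) = true := by
        intro g hg
        rw [List.all_eq_true]
        constructor
        · intro h k hk
          have hk' := (mem_members.1 hk)
          refine (hm (cj t.T t.I g k) (tm_lt _ _ _)).2 ?_
          rw [t.phi_cj hg hk'.1]
          exact (mem_normalizer_iff.1 h.2 _).1 ((hm k hk'.1).1 hk'.2)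
        · refine fun h => ⟨t.mem g, mem_normalizer_of_maps_finite fun v hv => ?_⟩
          obtain ⟨k, hk, rfl⟩ := t.surj v (hQ hv)
          rw [← t.phi_cj hg hk]
          exact (hm _ (tm_lt _ _ _)).1 (h k (mem_members.2 ⟨hk, (hm k hk).2 hv⟩))
      rw [t.card_eq inf_le_left (m := maskOf (fun g => (members c.mask).all fun h => c.mask.testBit (cj t.T t.I g h)) 64)
        (fun g hg => by rw [testBit_maskOf]; simp only [hg, decide_true, Bool.true_and]; exact (hrep g hg).symm)]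
      rw [← hN]
      refine congrArg List.length (List.filter_congr fun g hg => ?_)
      rw [testBit_maskOf]
      simp [List.mem_range.1 hg]

/-- The normalizer of the Sylow subgroup keeps the parity. -/
theorem top_good (hP : Nat.card (S : Subgroup G) = 64) {E : ℕ} (hE : parityOk t.T E = true) {c : Cert}
    (htop : topOk t.T t.I c = true) {g : G} (hg : g ∈ normalizer ((S : Subgroup G) : Set G)) {x : G}
    (hx : x ∈ (S : Subgroup G)) : t.Par E (g * x * g⁻¹) ↔ t.Par E x := by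
  haveI : Fact (Nat.Prime 2) := ⟨Nat.prime_two⟩
  simp only [topOk, Bool.and_eq_true, beq_iff_eq] at htop
  obtain ⟨⟨hfull, hcol⟩, hch⟩ := htop
  have hall : ∀ i < 64, c.mask.testBit i = true := fun i hi => by
    rw [hfull, Nat.testBit_two_pow_sub_one]; simp [hi]
  have hm : t.Rep c.mask (S : Subgroup G) := fun i hi => iff_of_true (hall i hi) (t.mem i)
  set β := conjAut (S : Subgroup G) g hg with hβ
  have both : ∀ ks : List ℕ, ∀ K, topChain t.T t.I c K ks = true →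
      (∀ γ : MulAut (S : Subgroup G), ∀ i < 64, K.testBit i = true → ∀ h : t.φ i ∈ (S : Subgroup G), ∀ j < 64,
        t.φ j = (γ ⟨t.φ i, h⟩ : (S : Subgroup G)) → K.testBit j = true) →
      t.Series (S : Subgroup G) K ks ∧ ∀ γ, t.Stab (S : Subgroup G) γ K ks := by
    intro ks
    induction ks with
    | nil =>
      intro K h _
      exact ⟨by simpa [topChain, Series] using h, fun _ => trivial⟩
    | cons K' ks ih =>
      intro K h hK
      simp only [topChain, Bool.and_eq_true, List.all_eq_true, Bool.or_eq_true, Bool.not_eq_true',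
        beq_eq_false_iff_ne] at h
      obtain ⟨⟨⟨⟨hs, hcl⟩, hsub⟩, hpair⟩, hrest⟩ := h
      have hinv : ∀ γ : MulAut (S : Subgroup G), ∀ i < 64, ∀ h : t.φ i ∈ (S : Subgroup G), ∀ j < 64,
          t.φ j = (γ ⟨t.φ i, h⟩ : (S : Subgroup G)) → K'.testBit j = K'.testBit i :=
        fun γ i hi h j hj e => t.sep_invariant le_rfl hm hcol hs γ (mem_members.2 ⟨hi, hall i hi⟩)
          (mem_members.2 ⟨hj, hall j hj⟩) fun _ => e
      have hK' : ∀ γ : MulAut (S : Subgroup G), ∀ i < 64, K'.testBit i = true → ∀ h : t.φ i ∈ (S : Subgroup G),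
          ∀ j < 64, t.φ j = (γ ⟨t.φ i, h⟩ : (S : Subgroup G)) → K'.testBit j = true :=
        fun γ i hi hiK h j hj e => (hinv γ i hi h j hj e).trans hiK
      obtain ⟨hser, hst⟩ := ih K' hrest hK'
      simp only [closed, List.all_eq_true] at hcl
      refine ⟨⟨hK', fun i hi j hj hiK hjK => hcl i (mem_members.2 ⟨hi, hiK⟩) j (mem_members.2 ⟨hj, hjK⟩),
        fun i hi hiK => hsub i (mem_members.2 ⟨hi, hiK⟩), hser⟩, fun γ => ⟨fun i hi hiK h => ?_, hst γ⟩⟩
      obtain ⟨j, hj, ej⟩ := t.surj _ (γ ⟨t.φ i, h⟩).2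
      refine ⟨_, tm_lt _ _ _, (hpair i (mem_members.2 ⟨hi, hiK⟩) j
        (mem_members.2 ⟨hj, hK γ i hi hiK h j hj ej⟩)).resolve_left fun e => e (hinv γ i hi h j hj ej).symm, ?_⟩
      rw [t.mul _ (iv_lt _ _) j hj, t.phi_iv hi, ← ej, mul_inv_cancel_left]
  have hinvtop : ∀ γ : MulAut (S : Subgroup G), ∀ i < 64, c.mask.testBit i = true →
      ∀ h : t.φ i ∈ (S : Subgroup G), ∀ j < 64, t.φ j = (γ ⟨t.φ i, h⟩ : (S : Subgroup G)) → c.mask.testBit j = true :=
    fun _ _ _ _ _ j hj _ => hall j hj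
  obtain ⟨hser, hst⟩ := both c.chain c.mask hch hinvtop
  set N := 6 * c.chain.length with hN
  have hfix : β ^ 2 ^ N = 1 := MulEquiv.ext fun y => by
    obtain ⟨k, hk, ek⟩ := t.surj _ y.2
    rw [show y = ⟨t.φ k, t.mem k⟩ from Subtype.ext ek.symm, hN, pow_mul, show (2 : ℕ) ^ 6 = 64 by norm_num]
    exact t.stab_fix hP le_rfl _ _ hser hinvtop β (hst β) k hk (hall k hk) (t.mem k)
  -- replace `g` by an element of the Sylow subgroup
  obtain ⟨a, r, hr, hgr⟩ := Nat.exists_eq_pow_mul_and_not_dvd (orderOf_pos g).ne' 2 (by norm_num)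
  obtain ⟨u, -, hu⟩ := Nat.exists_mul_mod_eq_one_of_coprime (k := 2 ^ (N + 1)) (n := r)
    ((Nat.prime_two.coprime_iff_not_dvd.2 hr).symm.pow_right _) (Nat.one_lt_two_pow (Nat.succ_ne_zero N))
  set h := g ^ (r * u) with hh
  have hhS : h ∈ (S : Subgroup G) := by
    have hp : IsPGroup 2 (zpowers h) := fun y => by
      obtain ⟨m, hm⟩ := y
      refine ⟨a, Subtype.ext ?_⟩
      obtain ⟨z, rfl⟩ := mem_zpowers_iff.1 hm
      show (h ^ z) ^ 2 ^ a = 1
      rw [← zpow_natCast, ← zpow_mul, mul_comm, zpow_mul, zpow_natCast, hh, ← pow_mul,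
        show r * u * 2 ^ a = orderOf g * u by rw [hgr]; ring, pow_mul, pow_orderOf_eq_one, one_pow, one_zpow]
    have hmem : h ∈ zpowers h ⊓ normalizer ((S : Subgroup G) : Set G) := ⟨mem_zpowers h, pow_mem hg _⟩
    exact (hp.inf_normalizer_sylow S ▸ hmem : h ∈ zpowers h ⊓ (S : Subgroup G)).2
  have hconj : g * x * g⁻¹ = h * x * h⁻¹ := by
    have e : β ^ (r * u) = β := by
      rw [← Nat.div_add_mod (r * u) (2 ^ (N + 1)), hu, pow_add, pow_mul, pow_succ 2 N, pow_mul β, hfix]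
      simp
    have e' : conjAut (S : Subgroup G) h (pow_mem hg _) = β ^ (r * u) :=
      map_pow (Subgroup.normalizerMonoidHom (S : Subgroup G)) ⟨g, hg⟩ (r * u)
    exact (congrArg (fun γ : MulAut (S : Subgroup G) => ((γ ⟨x, hx⟩ : (S : Subgroup G)) : G)) (e'.trans e)).symm
  rw [hconj]
  exact t.par_conj hE hhS hx

/-- No simple group has a Sylow 2-subgroup with a certified table. -/
theorem false_of_certified [IsSimpleGroup G] (hna : ¬ IsMulCommutative G) (hP : Nat.card (S : Subgroup G) = 64)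
    {E : ℕ} (hE : parityOk t.T E = true) {L : List Cert} (hL : listOk t.T L = true)
    (hsite : ∀ c ∈ L, siteOk t.T t.I E c = true) {top : Cert} (htop : topOk t.T t.I top = true) : False := by
  haveI : Fact (Nat.Prime 2) := ⟨Nat.prime_two⟩
  have hΦ := t.isMapClass hE
  have hsaturated := saturated_group (p := 2) S
  have key : ∀ (Q : Subgroup G) (f : G → G), IsMap (groupFusionSystem (S : Subgroup G)) Q f → t.Good E Q f := by
    intro Q f hf
    refine alperin_induction S.2 hsaturated hΦ ?_ (fun Q hQ hfn hcn hIH α hα => ?_) hf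
    · -- maps on the whole group
      intro f hf x hx
      obtain ⟨-, -, g, hg⟩ := isMap_group_iff.1 hf
      rw [hg x hx]
      have hgn : g ∈ normalizer ((S : Subgroup G) : Set G) := mem_normalizer_of_maps_finite fun v hv => by
        rw [← hg v hv]; exact hf.mem_S hv
      exact t.top_good hP hE htop hgn hx
    · obtain ⟨c, hc, hm⟩ := t.exists_rep S.2 hL Q hQ.le
      exact t.good_site hP hE ⟨hQ, hfn, hcn⟩ hIH hm (hsite c hc) α hα
  -- the focal subgroup lies in the kernel of the parity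
  let V : Subgroup G :=
    { carrier := {y | y ∈ (S : Subgroup G) ∧ t.Par E y}
      one_mem' := ⟨one_mem _, t.par_one hE⟩
      mul_mem' := fun {x y} hx hy => ⟨mul_mem hx.1 hy.1, (t.par_mul hE hx.1 hy.1).2 (iff_of_true hx.2 hy.2)⟩
      inv_mem' := fun {x} hx => ⟨inv_mem hx.1, (t.par_inv hE hx.1).2 hx.2⟩ }
  have hfoc : Subgroup.focalSubgroup (S : Subgroup G) ≤ V := by
    refine (Subgroup.closure_le _).2 ?_
    rintro _ ⟨hyS, x, hx, u, rfl⟩
    have hzS : u * x⁻¹ * u⁻¹ ∈ (S : Subgroup G) := by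
      rw [show u * x⁻¹ * u⁻¹ = x⁻¹ * ⁅x, u⁆ by rw [commutatorElement_def]; group]
      exact mul_mem (inv_mem hx) hyS
    have hmap : IsMap (groupFusionSystem (S : Subgroup G)) (zpowers x⁻¹) (fun v => u * v * u⁻¹) := by
      refine isMap_group_iff.2 ⟨zpowers_le.2 (inv_mem hx), fun v hv => ?_, u, fun _ _ => rfl⟩
      obtain ⟨n, rfl⟩ := mem_zpowers_iff.1 hv
      rw [← conj_zpow]
      exact zpow_mem hzS n
    have h := key _ _ hmap x⁻¹ (mem_zpowers _)
    refine ⟨hyS, ?_⟩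
    rw [commutatorElement_def, show x * u * x⁻¹ * u⁻¹ = x * (u * x⁻¹ * u⁻¹) by group, t.par_mul hE hx hzS, h,
      t.par_inv hE hx]
  have hcop : Nat.Coprime (S : Subgroup G).index
      ((Subgroup.focalSubgroup (S : Subgroup G)).relIndex (S : Subgroup G)) := by
    refine Nat.Coprime.coprime_dvd_right (relIndex_dvd_card _ _) ?_
    rw [hP, show (64 : ℕ) = 2 ^ 6 by norm_num]
    exact Nat.Coprime.pow_right 6 (Nat.prime_two.coprime_iff_not_dvd.2 S.not_dvd_index).symm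
  have hcomm : commutator G = ⊤ := by
    rcases IsSimpleGroup.eq_bot_or_eq_top_of_normal (commutator G) inferInstance with h | h
    · refine absurd ⟨⟨fun a b => commutatorElement_eq_one_iff_mul_comm.1 (mem_bot.1 (h ▸ ?_))⟩⟩ hna
      exact commutator_mem_commutator (mem_top a) (mem_top b)
    · exact h
  have hle : (S : Subgroup G) ≤ V := by
    refine le_trans ?_ hfoc
    rw [← Cfsg.Lib.Transfer.commutator_inf_eq_focal _ hcop, hcomm, top_inf_eq]
  simp only [parityOk, Bool.and_eq_true, List.any_eq_true, List.mem_range, Bool.not_eq_true'] at hE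
  obtain ⟨i, hi, hiE⟩ := hE.1.2
  rw [(t.par_phi hi).1 (hle (t.mem i)).2] at hiE
  exact Bool.noConfusion hiE

end Tab

end Cfsg.Lib.SelfCentEight
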