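import Cfsg.Agent.SelfCentEight.Derive
import Cfsg.Agent.SelfCentEight.Sites
import Cfsg.Agent.SelfCentEight.Rep001
import Cfsg.Agent.SelfCentEight.Rep010
import Cfsg.Agent.SelfCentEight.Rep011
import Cfsg.Agent.SelfCentEight.Rep100
import Cfsg.Agent.SelfCentEight.Rep101
import Cfsg.Agent.SelfCentEight.Rep110
import Cfsg.Agent.SelfCentEight.Rep111
import Cfsg.Agent.MTwelveType.Model

/-!
# The Sylow 2-subgroup of a simple group with a self-centralizing element of order eight fused to its odd powers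

In order 64 it is that of the Mathieu group of degree 12.
-/

set_option autoImplicit false
set_option linter.style.haveILetI false
set_option maxRecDepth 100000

namespace Cfsg.Lib.SelfCentEight

open Subgroup

universe u

variable {G : Type u} [Group G]

namespace Coord

variable {P : Subgroup G} (C : Coord P)

theorem map_mul (p q : ℕ) :
    ph C.F C.A C.B C.X (mul64 C.al C.c C.de p q) = ph C.F C.A C.B C.X p * ph C.F C.A C.B C.X q :=
  C.rels.ph_mul C.hc C.hde p q

/-- The table given by a normal form. -/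
def toTab (T : ℕ → ℕ) (I : ℕ) (hT : ∀ i < 64, ∀ j < 64, tm T i j = mul64 C.al C.c C.de i j)
    (hI : invOk T I = true) : Tab P where
  T := T
  I := I
  φ := ph C.F C.A C.B C.X
  mem := C.mem
  inj := C.inj
  surj := C.surj
  mul i hi j hj := by rw [hT i hi j hj, C.map_mul]
  one := by simp [ph, phD]
  inv := hI

end Coord

/-- The first generator in the model. -/
def mF : Cfsg.Lib.MTwelveType.M4 := ⟨0, 1, true, false⟩
/-- The second generator in the model. -/
def mA : Cfsg.Lib.MTwelveType.M4 := ⟨0, 1, false, true⟩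
/-- The third generator in the model. -/
def mB : Cfsg.Lib.MTwelveType.M4 := ⟨0, 2, false, false⟩
/-- The fourth generator in the model. -/
def mX : Cfsg.Lib.MTwelveType.M4 := ⟨0, 2, false, true⟩

theorem model_rels : Rels 0 0 0 mF mA mB mX :=
  ⟨⟨by decide +kernel, by decide +kernel, by decide +kernel, by decide +kernel, by decide +kernel,
    by decide +kernel⟩, by decide +kernel, by decide +kernel, by decide +kernel, by decide +kernel⟩

theorem model_inj : ∀ i : Fin 64, ∀ j : Fin 64, ph mF mA mB mX i = ph mF mA mB mX j → i = j := by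
  decide +kernel

theorem equiv_model {P : Subgroup G} (C : Coord P) (h : C.al = 0 ∧ C.c = 0 ∧ C.de = 0) :
    Nonempty (Cfsg.Lib.MTwelveType.M4 ≃* P) := by
  haveI : NeZero (2 ^ 2) := ⟨by norm_num⟩
  let m : Fin 64 → Cfsg.Lib.MTwelveType.M4 := fun i => ph mF mA mB mX i
  have hm : Function.Bijective m :=
    (Nat.bijective_iff_injective_and_card m).2
      ⟨fun i j e => model_inj i j e, by rw [Cfsg.Lib.MTwelveType.card_M4, Nat.card_fin]⟩
  let p : Fin 64 → P := fun i => ⟨ph C.F C.A C.B C.X i, C.mem i⟩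
  have hp : Function.Bijective p := ⟨fun i j e => Fin.ext (C.inj _ i.2 _ j.2 (congrArg Subtype.val e)), fun y => by
    obtain ⟨n, hn, e⟩ := C.surj y y.2
    exact ⟨⟨n, hn⟩, Subtype.ext e⟩⟩
  let e : Cfsg.Lib.MTwelveType.M4 ≃ P := (Equiv.ofBijective m hm).symm.trans (Equiv.ofBijective p hp)
  refine ⟨⟨e, fun x y => ?_⟩⟩
  obtain ⟨i, rfl⟩ := hm.2 x
  obtain ⟨j, rfl⟩ := hm.2 y
  have em : ∀ k, e (m k) = p k := fun k => by
    simp only [e, Equiv.trans_apply]
    rw [Equiv.ofBijective_symm_apply_apply]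
    rfl
  have hk : m i * m j = m ⟨mul64 0 0 0 i j, mul64_lt _ _ _ _ _⟩ :=
    (model_rels.ph_mul (by norm_num) (by norm_num) i j).symm
  show e (m i * m j) = e (m i) * e (m j)
  rw [hk, em, em, em]
  refine Subtype.ext ?_
  show ph C.F C.A C.B C.X (mul64 0 0 0 i j) = _
  have := C.map_mul i j
  rw [h.1, h.2.1, h.2.2] at this
  exact this

variable [Finite G] [IsSimpleGroup G]

/-- The Sylow subgroup is that of `M₁₂`. -/
theorem sylow_equiv (hna : ¬ IsMulCommutative G) (S : Sylow 2 G) (hS : Nat.card (S : Subgroup G) = 64) (f : G)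
    (hfS : f ∈ (S : Subgroup G)) (hf : orderOf f = 8)
    (hself : ∀ x ∈ (S : Subgroup G), x * f = f * x → x ∈ Subgroup.zpowers f)
    (hodd : ∀ k ∈ ({3, 5, 7} : Set ℕ), ∃ x ∈ (S : Subgroup G), x * f * x⁻¹ = f ^ k) :
    Nonempty (Cfsg.Lib.MTwelveType.M4 ≃* (S : Subgroup G)) := by
  obtain ⟨C⟩ := exists_coord _ hS f hfS hf hself hodd
  have hal := C.hal
  have hc := C.hc
  have hde := C.hde
  rcases (show (C.al = 0 ∧ C.c = 0 ∧ C.de = 0) ∨
      (C.al = 0 ∧ C.c = 0 ∧ C.de = 1) ∨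
      (C.al = 0 ∧ C.c = 1 ∧ C.de = 0) ∨
      (C.al = 0 ∧ C.c = 1 ∧ C.de = 1) ∨
      (C.al = 1 ∧ C.c = 0 ∧ C.de = 0) ∨
      (C.al = 1 ∧ C.c = 0 ∧ C.de = 1) ∨
      (C.al = 1 ∧ C.c = 1 ∧ C.de = 0) ∨
      (C.al = 1 ∧ C.c = 1 ∧ C.de = 1) by omega) with
    h | ⟨ha, hb, hd⟩ | ⟨ha, hb, hd⟩ | ⟨ha, hb, hd⟩ | ⟨ha, hb, hd⟩ | ⟨ha, hb, hd⟩ | ⟨ha, hb, hd⟩ | ⟨ha, hb, hd⟩
  · exact equiv_model C h
  · exact ((C.toTab Rep001.table Rep001.invs (by rw [ha, hb, hd]; exact Rep001.table_eq) Rep001.inv_ok).false_of_certified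
      hna hS Rep001.half_ok Rep001.list_ok Rep001.site_ok Rep001.top_ok).elim
  · exact ((C.toTab Rep010.table Rep010.invs (by rw [ha, hb, hd]; exact Rep010.table_eq) Rep010.inv_ok).false_of_certified
      hna hS Rep010.half_ok Rep010.list_ok Rep010.site_ok Rep010.top_ok).elim
  · exact ((C.toTab Rep011.table Rep011.invs (by rw [ha, hb, hd]; exact Rep011.table_eq) Rep011.inv_ok).false_of_certified
      hna hS Rep011.half_ok Rep011.list_ok Rep011.site_ok Rep011.top_ok).elim
  · exact ((C.toTab Rep100.table Rep100.invs (by rw [ha, hb, hd]; exact Rep100.table_eq) Rep100.inv_ok).false_of_certified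
      hna hS Rep100.half_ok Rep100.list_ok Rep100.site_ok Rep100.top_ok).elim
  · exact ((C.toTab Rep101.table Rep101.invs (by rw [ha, hb, hd]; exact Rep101.table_eq) Rep101.inv_ok).false_of_certified
      hna hS Rep101.half_ok Rep101.list_ok Rep101.site_ok Rep101.top_ok).elim
  · exact ((C.toTab Rep110.table Rep110.invs (by rw [ha, hb, hd]; exact Rep110.table_eq) Rep110.inv_ok).false_of_certified
      hna hS Rep110.half_ok Rep110.list_ok Rep110.site_ok Rep110.top_ok).elim
  · exact ((C.toTab Rep111.table Rep111.invs (by rw [ha, hb, hd]; exact Rep111.table_eq) Rep111.inv_ok).false_of_certified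
      hna hS Rep111.half_ok Rep111.list_ok Rep111.site_ok Rep111.top_ok).elim

/-- A Sylow 2-subgroup of `M₁₂` isomorphic to a given group carrying the model. -/
theorem exists_sylow_M12 {Q : Type u} [Group Q] (e : Cfsg.Lib.MTwelveType.M4 ≃* Q) :
    ∃ R : Sylow 2 ↥Cfsg.Spor.M12, Nonempty (Q ≃* ↥(R : Subgroup ↥Cfsg.Spor.M12)) := by
  haveI : Fact (Nat.Prime 2) := ⟨Nat.prime_two⟩
  obtain ⟨φ, hφ⟩ := Cfsg.Lib.MTwelveType.exists_embedding
  have hp : IsPGroup 2 φ.range := IsPGroup.of_card (n := 6) (by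
    rw [← Nat.card_congr (MonoidHom.ofInjective hφ).toEquiv, Cfsg.Lib.MTwelveType.card_M4]; norm_num)
  obtain ⟨R, hR⟩ := hp.exists_le_sylow
  have hcard : Nat.card ↥(R : Subgroup ↥Cfsg.Spor.M12) = 64 := by
    rw [R.card_eq_multiplicity, Cfsg.Lib.Golay.card_M12]
    rw [show (95040 : ℕ) = 2 ^ 6 * 1485 by norm_num, Nat.factorization_mul (by norm_num) (by norm_num)]
    rw [Finsupp.add_apply, Nat.Prime.factorization_pow Nat.prime_two, Finsupp.single_eq_same,
      Nat.factorization_eq_zero_of_not_dvd (show ¬ 2 ∣ 1485 by norm_num)]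
    norm_num
  have heq : φ.range = (R : Subgroup ↥Cfsg.Spor.M12) := Subgroup.eq_of_le_of_card_ge hR (by
    rw [hcard, ← Nat.card_congr (MonoidHom.ofInjective hφ).toEquiv, Cfsg.Lib.MTwelveType.card_M4])
  exact ⟨R, ⟨e.symm.trans ((MonoidHom.ofInjective hφ).trans (MulEquiv.subgroupCongr heq))⟩⟩

end Cfsg.Lib.SelfCentEight
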