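import Mathlib

/-!
# Computable checks on a multiplication table of order 64

Subsets are bit masks. A certificate lists all subgroups; for the relevant ones it records why no automorphism at
that subgroup can move elements out of a given subgroup of index two.
-/

set_option autoImplicit false

namespace Cfsg.Lib.SelfCentEight

/-- An entry of a table packed in a number. -/
def tm (T : ℕ → ℕ) (i j : ℕ) : ℕ := (T i >>> (6 * j)) &&& 63

/-- The inverse from a packed list. -/
def iv (I i : ℕ) : ℕ := (I >>> (6 * i)) &&& 63

theorem tm_lt (T : ℕ → ℕ) (i j : ℕ) : tm T i j < 64 := by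
  have := @Nat.and_le_right (T i >>> (6 * j)) 63
  unfold tm; omega

theorem iv_lt (I i : ℕ) : iv I i < 64 := by
  have := @Nat.and_le_right (I >>> (6 * i)) 63
  unfold iv; omega

/-- The elements of a mask. -/
def members (m : ℕ) : List ℕ := (List.range 64).filter fun i => m.testBit i

theorem mem_members {m i : ℕ} : i ∈ members m ↔ i < 64 ∧ m.testBit i = true := by
  simp [members]

theorem nodup_members (m : ℕ) : (members m).Nodup := List.nodup_range.filter _

/-- The mask of a predicate below a bound. -/
def maskOf (p : ℕ → Bool) : ℕ → ℕ
  | 0 => 0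
  | n + 1 => (if p n then 2 ^ n else 0) ||| maskOf p n

theorem testBit_maskOf (p : ℕ → Bool) : ∀ n i, (maskOf p n).testBit i = (decide (i < n) && p i)
  | 0, i => by simp [maskOf]
  | n + 1, i => by
    rw [maskOf, Nat.testBit_lor, testBit_maskOf p n i]
    rcases eq_or_ne i n with rfl | h
    · cases hp : p i <;> simp
    · cases hp : p n
      · simp [show decide (i ≤ n) = decide (i < n) by simp; omega]
      · simp [show decide (i ≤ n) = decide (i < n) by simp; omega, h.symm]

/-- The mask of two cosets of a mask. -/
def cosMask (T : ℕ → ℕ) (m g : ℕ) : ℕ := maskOf (fun i => m.testBit i || m.testBit (tm T i g)) 64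

/-- A site certificate. -/
structure Cert where
  mask : ℕ
  kind : ℕ
  base : ℕ
  vals : List ℕ
  g : ℕ
  chain : List ℕ
  next : List (ℕ × ℕ)

/-- The first colour. -/
def col0 (T : ℕ → ℕ) (l : List ℕ) (i : ℕ) : ℕ :=
  (if tm T i i = 0 then 1 else 0) + 2 * l.countP (fun h => tm T h h == i) +
    256 * l.countP (fun h => tm T i h == tm T h i)

/-- A first colour stored in a number. -/
def unp (C i : ℕ) : ℕ := (C >>> (16 * i)) &&& 65535

/-- A weight. -/
def wt (x : ℕ) : ℕ := (x + 3) * (x + 11) * 2654435761

/-- The second colour. -/
def col1 (T : ℕ → ℕ) (C : ℕ) (l : List ℕ) (i : ℕ) : ℕ :=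
  ((unp C i * 65536 + unp C (tm T i i)) * 2 ^ 80 + ((l.filter (fun h => tm T h h == i)).map fun h => wt (unp C h)).sum) *
      2 ^ 80 +
    ((l.filter (fun h => tm T i h == tm T h i)).map fun h => wt (unp C h + 5 * unp C (tm T i h))).sum

/-- The colour used by a certificate. -/
def col (T : ℕ → ℕ) (c : Cert) (i : ℕ) : ℕ :=
  if c.base = 0 then col0 T (members c.mask) i else col1 T c.base (members c.mask) i

/-- The stored colours are the colours. -/
def colOk (T : ℕ → ℕ) (c : Cert) : Bool :=
  (c.base == 0 || (members c.mask).all fun i => unp c.base i == col0 T (members c.mask) i) &&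
    ((members c.mask).map (col T c) == c.vals)

/-- The stored colours separate a mask. -/
def sep (c : Cert) (K : ℕ) : Bool :=
  ((members c.mask).zip c.vals).all fun x => ((members c.mask).zip c.vals).all fun y =>
    (K.testBit x.1 == K.testBit y.1) || !(x.2 == y.2)

/-- A mask is closed under products. -/
def closed (T : ℕ → ℕ) (K : ℕ) : Bool := (members K).all fun a => (members K).all fun b => K.testBit (tm T a b)

/-- Conjugation. -/
def cj (T : ℕ → ℕ) (I g h : ℕ) : ℕ := tm T (tm T g h) (iv I g)

/-- The element `g` stabilises the series starting at `K`. -/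
def chainOk (T : ℕ → ℕ) (I : ℕ) (c : Cert) : ℕ → List ℕ → Bool
  | K, [] => K == 1
  | K, K' :: ks => sep c K' && closed T K' && ((members K).all fun h => K'.testBit (tm T (iv I h) (cj T I c.g h))) &&
      ((members K').all fun h => K.testBit h) && chainOk T I c K' ks

/-- A series of invariant masks with steps of index two. -/
def topChain (T : ℕ → ℕ) (I : ℕ) (c : Cert) : ℕ → List ℕ → Bool
  | K, [] => K == 1
  | K, K' :: ks => sep c K' && closed T K' && ((members K').all fun h => K.testBit h) &&
      ((members K).all fun a => (members K).all fun b =>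
        !(K'.testBit a == K'.testBit b) || K'.testBit (tm T (iv I a) b)) && topChain T I c K' ks

/-- The automorphisms of the whole group form a 2-group. -/
def topOk (T : ℕ → ℕ) (I : ℕ) (c : Cert) : Bool :=
  (c.mask == 2 ^ 64 - 1) && colOk T c && topChain T I c c.mask c.chain

/-- The mask is not that of a centric proper subgroup, or it lies in `E`. -/
def trivSite (T : ℕ → ℕ) (E m : ℕ) : Bool :=
  (m == 2 ^ 64 - 1) || ((members m).all fun i => E.testBit i) ||
    (List.range 64).any fun g => !m.testBit g && (members m).all fun h => tm T g h == tm T h g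

/-- An elementary mask of order eight with normalizer of index four over it. -/
def eSite (T : ℕ → ℕ) (I m : ℕ) : Bool :=
  ((members m).length == 8) && ((members m).all fun i => tm T i i == 0) &&
    (((List.range 64).filter fun g => (members m).all fun h => m.testBit (cj T I g h)).length == 32)

/-- A site is handled. -/
def siteOk (T : ℕ → ℕ) (I E : ℕ) (c : Cert) : Bool :=
  if c.kind = 0 then trivSite T E c.mask
  else if c.kind = 1 then colOk T c && sep c E
  else if c.kind = 2 then
    colOk T c && decide (c.g < 64) && !c.mask.testBit c.g &&
      ((members c.mask).all fun h => c.mask.testBit (cj T I c.g h)) && chainOk T I c c.mask c.chain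
  else eSite T I c.mask

/-- The list of masks is closed under adjoining square roots in the normalizer. -/
def listOk (T : ℕ → ℕ) (L : List Cert) : Bool :=
  (L.map Cert.mask).contains 1 && L.all fun c =>
    (c.next.all fun x =>
        decide (x.1 < 64) && (x.2 == cosMask T c.mask x.1) && (L.map Cert.mask).contains x.2) &&
      (List.range 64).all fun g =>
        c.mask.testBit g || !c.mask.testBit (tm T g g) ||
          ((members c.mask).any fun h => !c.mask.testBit (tm T (tm T g h) g)) || c.next.any fun x => x.2.testBit g

/-- `E` is the kernel of a surjection onto a group of order two. -/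
def parityOk (T : ℕ → ℕ) (E : ℕ) : Bool :=
  E.testBit 0 && ((List.range 64).any fun i => !E.testBit i) &&
    (List.range 64).all fun i => (List.range 64).all fun j => E.testBit (tm T i j) == (E.testBit i == E.testBit j)

/-- The inverses are right. -/
def invOk (T : ℕ → ℕ) (I : ℕ) : Bool := (List.range 64).all fun i => tm T i (iv I i) == 0

end Cfsg.Lib.SelfCentEight
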