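import Cfsg.Agent.SelfCentEight.Model

/-!
# Normal form of a 2-group of order 64 with a self-centralizing element of order eight fused to its odd powers
-/

set_option autoImplicit false

namespace Cfsg.Lib.SelfCentEight

universe u

open Subgroup

set_option maxRecDepth 100000 in
set_option synthInstance.maxSize 4000 in
set_option synthInstance.maxHeartbeats 200000 in
theorem reduce_auto : ∀ al < 2, ∀ f' < 32, (8 ≤ f' ∧ pw al f' 4 ≠ 0) → ∀ a' < 32,
    (mulD al a' f' = mulD al (pw al f' 7) a' ∧ mulD al a' a' = pw al f' (4 * al)) → ∀ b' < 32,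
    (mulD al b' f' = mulD al (pw al f' 5) b' ∧ mulD al b' b' = 0 ∧ mulD al a' b' = mulD al b' a') →
      ∃ h < 32, ∃ c < 2, mulD al h f' = mulD al 17 h ∧ mulD al h a' = mulD al (2 * c + 24) h ∧
        mulD al h b' = mulD al 16 h := by
  decide +kernel

set_option maxRecDepth 100000 in
set_option synthInstance.maxSize 4000 in
set_option synthInstance.maxHeartbeats 200000 in
theorem reduce_square : ∀ al < 2, ∀ c < 2, ∀ d < 32,
    sig al c d = d → (∀ q ∈ [1, 8, 16], mulD al (sig al c (sig al c q)) d = mulD al d q) →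
      d = 0 ∨ d = 4 := by
  decide +kernel

variable {G : Type u} [Group G]

/-- Conjugation by `y` raises `f` to the `k`-th power. -/
def Mv (f : G) (k : ℕ) (y : G) : Prop := y * f = f ^ k * y

theorem Mv.mul {f y z : G} {k l : ℕ} (hy : Mv f k y) (hz : Mv f l z) : Mv f (k * l) (y * z) := by
  show y * z * f = f ^ (k * l) * (y * z)
  rw [mul_assoc, hz, ← mul_assoc, pow_move hy, mul_assoc]

theorem Mv.congr {f y : G} {k l : ℕ} (hy : Mv f k y) (f8 : f ^ 8 = 1) (h : k % 8 = l % 8) : Mv f l y := by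
  show y * f = f ^ l * y
  rw [← pow_mod8 f8, ← h, pow_mod8 f8]; exact hy

theorem Mv.inv {f y : G} {k l : ℕ} (hy : Mv f k y) (f8 : f ^ 8 = 1) (h : k * l % 8 = 1) : Mv f l y⁻¹ := by
  show y⁻¹ * f = f ^ l * y⁻¹
  rw [inv_mul_eq_iff_eq_mul, ← mul_assoc, pow_move hy, mul_inv_cancel_right, ← pow_mod8 f8, h, pow_one]

theorem Mv.pow {f y : G} {k : ℕ} (hy : Mv f k y) : ∀ n : ℕ, Mv f (k ^ n) (y ^ n)
  | 0 => by simp [Mv]
  | n + 1 => by rw [pow_succ, pow_succ]; exact (Mv.pow hy n).mul hy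

theorem Mv.self (f : G) (n : ℕ) : Mv f 1 (f ^ n) := by
  show f ^ n * f = f ^ 1 * f ^ n
  rw [← pow_succ, ← pow_add, add_comm]

/-- A normal form of a subgroup of order 64. -/
structure Coord (P : Subgroup G) where
  al : ℕ
  c : ℕ
  de : ℕ
  F : G
  A : G
  B : G
  X : G
  hal : al < 2
  hc : c < 2
  hde : de < 2
  rels : Rels al c de F A B X
  mem : ∀ n, ph F A B X n ∈ P
  inj : ∀ p < 64, ∀ q < 64, ph F A B X p = ph F A B X q → p = q
  surj : ∀ y ∈ P, ∃ n < 64, ph F A B X n = y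

variable [Finite G]

theorem exists_coord (P : Subgroup G) (hP : Nat.card P = 64) (f : G) (hfP : f ∈ P) (hf : orderOf f = 8)
    (hself : ∀ x ∈ P, x * f = f * x → x ∈ Subgroup.zpowers f)
    (hodd : ∀ k ∈ ({3, 5, 7} : Set ℕ), ∃ x ∈ P, x * f * x⁻¹ = f ^ k) : Nonempty (Coord P) := by
  haveI : Fact (Nat.Prime 2) := ⟨Nat.prime_two⟩
  have f8 : f ^ 8 = 1 := hf ▸ pow_orderOf_eq_one f
  have finj : ∀ i j : ℕ, f ^ i = f ^ j → i % 8 = j % 8 := fun i j h => by
    simpa [hf, Nat.ModEq] using pow_eq_pow_iff_modEq.1 h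
  have hpow : ∀ y ∈ P, ∀ k, Mv f k y → k % 8 = 1 → ∃ i < 8, y = f ^ i := by
    intro y hy k hk hk1
    obtain ⟨i, hi⟩ := mem_powers_iff_mem_zpowers.2 (hself y hy (by
      have h := hk.congr f8 (l := 1) hk1
      rwa [Mv, pow_one] at h))
    exact ⟨i % 8, Nat.mod_lt _ (by norm_num), by rw [pow_mod8 f8]; exact hi.symm⟩
  obtain ⟨a₀, ha₀P, ha₀⟩ := hodd 7 (by simp)
  obtain ⟨b₀, hb₀P, hb₀⟩ := hodd 5 (by simp)
  replace ha₀ : Mv f 7 a₀ := mul_inv_eq_iff_eq_mul.1 ha₀
  replace hb₀ : Mv f 5 b₀ := mul_inv_eq_iff_eq_mul.1 hb₀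
  -- the square of the second generator
  obtain ⟨i, hi8, hi⟩ := hpow (b₀ * b₀) (mul_mem hb₀P hb₀P) _ (hb₀.mul hb₀) rfl
  have hieven : i % 2 = 0 := by
    have h1 : b₀ * f ^ i = f ^ i * b₀ := by rw [← hi, mul_assoc]
    rw [pow_move hb₀, mul_left_inj] at h1
    have := finj _ _ h1
    omega
  obtain ⟨b, hbdef⟩ : ∃ b, b = f ^ (i / 2) * b₀ := ⟨_, rfl⟩
  have hbP : b ∈ P := hbdef ▸ mul_mem (pow_mem hfP _) hb₀P
  have hbf : Mv f 5 b := hbdef ▸ (Mv.self f _).mul hb₀
  have hbb : b * b = 1 := by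
    rw [hbdef, mul_assoc, ← mul_assoc b₀, pow_move hb₀, mul_assoc (f ^ (5 * (i / 2))), hi, ← pow_add, ← pow_add,
      ← pow_mod8 f8, show (i / 2 + (5 * (i / 2) + i)) % 8 = 0 by omega, pow_zero]
  -- make the first generator commute with the second
  obtain ⟨g, hg8, hg⟩ := hpow (b * a₀ * b⁻¹ * a₀⁻¹) (by apply_rules [mul_mem, inv_mem]) _
    (((hbf.mul ha₀).mul (hbf.inv f8 (l := 5) rfl)).mul (ha₀.inv f8 (l := 7) rfl)) rfl
  have hba : b * a₀ = f ^ g * a₀ * b := by
    rw [← hg]; group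
  have hg4 : g = 0 ∨ g = 4 := by
    have h1 : b * (b * a₀) = f ^ (5 * g) * f ^ g * a₀ * (b * b) := by
      conv_lhs => rw [hba, ← mul_assoc, ← mul_assoc, pow_move hbf, mul_assoc _ b a₀, hba]
      simp only [mul_assoc]
    rw [← mul_assoc, hbb, one_mul, mul_one, ← pow_add, right_eq_mul] at h1
    have := finj (5 * g + g) 0 (by rw [h1, pow_zero])
    omega
  obtain ⟨a, hadef⟩ : ∃ a, a = f ^ (g / 4) * a₀ := ⟨_, rfl⟩
  have haP : a ∈ P := hadef ▸ mul_mem (pow_mem hfP _) ha₀P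
  have haf : Mv f 7 a := hadef ▸ (Mv.self f _).mul ha₀
  have hab : a * b = b * a := by
    rw [hadef, ← mul_assoc b, pow_move hbf, mul_assoc _ b a₀, hba, ← mul_assoc, ← mul_assoc, ← pow_add,
      ← pow_mod8 f8 (5 * (g / 4) + g), ← pow_mod8 f8 (g / 4)]
    rcases hg4 with rfl | rfl <;> norm_num
  obtain ⟨t, ht8, ht⟩ := hpow (a * a) (mul_mem haP haP) _ (haf.mul haf) rfl
  have ht4 : t = 0 ∨ t = 4 := by
    have h1 : a * f ^ t = f ^ t * a := by rw [← ht, mul_assoc]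
    rw [pow_move haf, mul_left_inj] at h1
    have := finj _ _ h1
    omega
  obtain ⟨al, hal, rfl⟩ : ∃ al < 2, t = 4 * al := by
    rcases ht4 with rfl | rfl
    · exact ⟨0, by norm_num, rfl⟩
    · exact ⟨1, by norm_num, rfl⟩
  have R : RelsD al f a b := ⟨f8, haf, hbf, ht, hbb, hab⟩
  -- the coordinates of the normalizer of `⟨f⟩`
  have dmem : ∀ n, phD f a b n ∈ P := fun n =>
    mul_mem (mul_mem (pow_mem hfP _) (pow_mem haP _)) (pow_mem hbP _)
  have dconj : ∀ n, Mv f (7 ^ (n / 8 % 2) * 5 ^ (n / 16 % 2)) (phD f a b n) := fun n => by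
    simpa only [one_mul, phD] using ((Mv.self f (n % 8)).mul (haf.pow _)).mul (hbf.pow _)
  have dinj : ∀ p < 32, ∀ q < 32, phD f a b p = phD f a b q → p = q := by
    intro p hp q hq h
    have h1 := dconj p
    rw [h] at h1
    have h2 := finj _ _ (mul_right_cancel (h1.symm.trans (dconj q)))
    obtain ⟨e1, e2⟩ : p / 8 % 2 = q / 8 % 2 ∧ p / 16 % 2 = q / 16 % 2 := by
      have : p / 8 % 2 < 2 := by omega
      have : p / 16 % 2 < 2 := by omega
      have : q / 8 % 2 < 2 := by omega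
      have : q / 16 % 2 < 2 := by omega
      interval_cases hj : p / 8 % 2 <;> interval_cases hk : p / 16 % 2 <;> interval_cases hj' : q / 8 % 2 <;>
        interval_cases hk' : q / 16 % 2 <;> simp at h2 ⊢
    rw [phD, phD, e1, e2, mul_left_inj, mul_left_inj] at h
    have := finj _ _ h
    omega
  set D := P ⊓ normalizer ((zpowers f : Subgroup G) : Set G) with hD
  have dsurj : ∀ y ∈ P, ∀ k : ℕ, Mv f k y → ∃ n < 32, phD f a b n = y := by
    intro y hy k hk
    have hk2 : k % 8 % 2 = 1 := by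
      by_contra h
      have h1 : y * f ^ 4 = f ^ (k * 4) * y := pow_move hk 4
      rw [← pow_mod8 f8 (k * 4), show k * 4 % 8 = 0 by omega, pow_zero, one_mul, mul_eq_left] at h1
      have := finj 4 0 (by rw [h1, pow_zero])
      omega
    obtain ⟨m, hm, hmk⟩ : ∃ m < 4, k % 8 * (7 ^ (m % 2) * 5 ^ (m / 2)) % 8 = 1 := by
      have : k % 8 < 8 := by omega
      interval_cases h : k % 8 <;> simp at hk2 <;> decide
    rw [Nat.mod_mul_mod] at hmk
    obtain ⟨n, hn⟩ : ∃ n, n = 8 * (m % 2) + 16 * (m / 2) := ⟨_, rfl⟩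
    have hz := dconj n
    rw [show n / 8 % 2 = m % 2 by omega, show n / 16 % 2 = m / 2 by omega] at hz
    have hsq : ∀ m < 4, 7 ^ (m % 2) * 5 ^ (m / 2) * (7 ^ (m % 2) * 5 ^ (m / 2)) % 8 = 1 := by decide
    obtain ⟨r, hr, hyr⟩ := hpow (y * (phD f a b n)⁻¹) (mul_mem hy (inv_mem (dmem _))) _
      (hk.mul (hz.inv f8 (hsq m hm))) hmk
    refine ⟨r + n, by omega, ?_⟩
    rw [mul_inv_eq_iff_eq_mul] at hyr
    rw [hyr, phD, phD, show (r + n) % 8 = r by omega, show (r + n) / 8 % 2 = n / 8 % 2 by omega,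
      show (r + n) / 16 % 2 = n / 16 % 2 by omega, show n % 8 = 0 by omega, pow_zero, one_mul, mul_assoc]
  have memD : ∀ n, phD f a b n ∈ D := fun n => ⟨dmem n, by
    refine mem_normalizer_iff_map_conj_eq.2 (eq_of_le_of_card_ge ?_ ?_)
    · rintro _ ⟨u, hu, rfl⟩
      obtain ⟨e, rfl⟩ := mem_zpowers_iff.1 hu
      rw [MonoidHom.map_zpow]
      refine zpow_mem ?_ _
      show phD f a b n * f * (phD f a b n)⁻¹ ∈ zpowers f
      rw [dconj n, mul_inv_cancel_right]
      exact pow_mem (mem_zpowers f) _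
    · rw [card_map_of_injective (MulAut.conj _).injective]⟩
  have Dsurj : ∀ y ∈ D, ∃ n < 32, phD f a b n = y := by
    intro y hy
    have h : y * f * y⁻¹ ∈ zpowers f := (mem_normalizer_iff.1 hy.2 f).1 (mem_zpowers f)
    obtain ⟨k, hk⟩ := mem_powers_iff_mem_zpowers.2 h
    exact dsurj y hy.1 k (mul_inv_eq_iff_eq_mul.1 hk.symm)
  have hDcard : Nat.card D = 32 := by
    let e : Fin 32 → D := fun n => ⟨phD f a b n, memD n⟩
    rw [← Nat.card_congr (Equiv.ofBijective e ⟨fun p q h => Fin.ext (dinj _ p.2 _ q.2 (congrArg Subtype.val h)),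
      fun y => ?_⟩), Nat.card_fin]
    obtain ⟨n, hn, he⟩ := Dsurj y y.2
    exact ⟨⟨n, hn⟩, Subtype.ext he⟩
  have hidx : (D.subgroupOf P).index = 2 := by
    have h := (D.subgroupOf P).card_mul_index
    rw [Nat.card_congr (subgroupOfEquivOfLe (inf_le_left : D ≤ P)).toEquiv, hDcard, hP] at h
    omega
  obtain ⟨x, hxP, hxD⟩ : ∃ x ∈ P, x ∉ D := by
    by_contra h
    push Not at h
    have := Nat.card_congr (Equiv.subtypeEquivRight fun y => (⟨h y, fun hy => hy.1⟩ : y ∈ P ↔ y ∈ D))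
    rw [hP, hDcard] at this
    omega
  have hDn := normal_of_index_eq_two hidx
  have xconj : ∀ z ∈ D, x * z * x⁻¹ ∈ D := fun z hz => by
    have := hDn.conj_mem ⟨z, hz.1⟩ hz ⟨x, hxP⟩
    exact this
  obtain ⟨f', hf', ef⟩ := Dsurj _ (xconj f (phD_one f a b ▸ memD 1))
  obtain ⟨a', ha', ea⟩ := Dsurj _ (xconj a (phD_eight f a b ▸ memD 8))
  obtain ⟨b', hb', eb⟩ := Dsurj _ (xconj b (phD_sixteen f a b ▸ memD 16))
  have dec : ∀ p < 32, ∀ q < 32, phD f a b p = phD f a b q ↔ p = q := fun p hp q hq =>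
    ⟨dinj p hp q hq, congrArg _⟩
  have c1 : 8 ≤ f' ∧ pw al f' 4 ≠ 0 := by
    constructor
    · by_contra h
      refine hxD ?_
      obtain ⟨n, hn, hxn⟩ := dsurj x hxP f' (mul_inv_eq_iff_eq_mul.1 (ef.symm.trans (by
        rw [phD, show f' / 8 % 2 = 0 by omega, show f' / 16 % 2 = 0 by omega, pow_zero, pow_zero, mul_one, mul_one,
          Nat.mod_eq_of_lt (by omega)])))
      exact hxn ▸ memD n
    · intro h
      have h1 : (x * f * x⁻¹) ^ 4 = 1 := by rw [← ef, ← R.phD_pw, h]; simp [phD]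
      rw [conj_pow, conj_eq_one_iff] at h1
      have := finj 4 0 (by rw [h1, pow_zero])
      omega
  have c2 : mulD al a' f' = mulD al (pw al f' 7) a' ∧ mulD al a' a' = pw al f' (4 * al) := by
    constructor
    · rw [← dec _ (mulD_lt _ _ _) _ (mulD_lt _ _ _), R.phD_mul, R.phD_mul, R.phD_pw, ef, ea, conj_pow, conj_mul,
        conj_mul, haf]
    · rw [← dec _ (mulD_lt _ _ _) _ (pw_lt _ _ _), R.phD_mul, R.phD_pw, ef, ea, conj_pow, conj_mul, ht]
  have c3 : mulD al b' f' = mulD al (pw al f' 5) b' ∧ mulD al b' b' = 0 ∧ mulD al a' b' = mulD al b' a' := by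
    refine ⟨?_, ?_, ?_⟩
    · rw [← dec _ (mulD_lt _ _ _) _ (mulD_lt _ _ _), R.phD_mul, R.phD_mul, R.phD_pw, ef, eb, conj_pow, conj_mul,
        conj_mul, hbf]
    · rw [← dec _ (mulD_lt _ _ _) _ (by norm_num), R.phD_mul, eb, conj_mul, hbb]; simp [phD]
    · rw [← dec _ (mulD_lt _ _ _) _ (mulD_lt _ _ _), R.phD_mul, R.phD_mul, ea, eb, conj_mul, conj_mul, hab]
  obtain ⟨h, -, c, hc, h1, h2, h3⟩ := reduce_auto al hal f' hf' c1 a' ha' c2 b' hb' c3
  obtain ⟨X, hX⟩ : ∃ X, X = phD f a b h * x := ⟨_, rfl⟩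
  have hXP : X ∈ P := hX ▸ mul_mem (dmem _) hxP
  have hXD : X ∉ D := fun e => hxD (by
    have := mul_mem (inv_mem (memD h)) e
    rwa [hX, inv_mul_cancel_left] at this)
  have tr : ∀ u u' v : ℕ, ∀ z : G, phD f a b u' = x * z * x⁻¹ → mulD al h u' = mulD al v h →
      X * z = phD f a b v * X := by
    intro u u' v z hz he
    have := congrArg (phD f a b) he
    rw [R.phD_mul, R.phD_mul, hz] at this
    rw [hX, ← mul_assoc (phD f a b v), ← this]
    group
  have Xf : X * f = f * b * X := phD_seventeen f a b ▸ tr 1 f' 17 f ef h1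
  have Xa : X * a = f ^ (2 * c) * a * b * X := phD_xa f a b hc ▸ tr 8 a' _ a ea h2
  have Xb : X * b = b * X := by simpa [phD_sixteen] using tr 16 b' 16 b eb h3
  obtain ⟨d, hd, ed⟩ := Dsurj (X * X) (by
    have h := mul_self_mem_of_index_two hidx (⟨X, hXP⟩ : P)
    exact h)
  have Xd : ∀ q, X * phD f a b q = phD f a b (sig al c q) * X := by
    intro q
    refine mul_inv_eq_iff_eq_mul.1 ?_
    rw [sig, R.phD_mul, R.phD_mul, R.phD_pw, R.phD_pw, R.phD_pw, phD_seventeen, phD_xa f a b hc, phD_sixteen,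
      phD, conj_mul.symm, conj_mul.symm, ← conj_pow, ← conj_pow, ← conj_pow, Xf, Xa, Xb]
    simp only [mul_assoc, mul_inv_cancel, mul_one]
  have hd04 : d = 0 ∨ d = 4 := by
    refine reduce_square al hal c hc d hd ?_ fun q hq => ?_
    · refine dinj _ (show sig al c d < 32 from mulD_lt _ _ _) _ hd (mul_right_cancel (b := X) ?_)
      rw [← Xd, ed, mul_assoc]
    · rw [← dec _ (mulD_lt _ _ _) _ (mulD_lt _ _ _), R.phD_mul, R.phD_mul, ed]
      rw [mul_assoc X X, Xd q, ← mul_assoc X, Xd, mul_assoc]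
  obtain ⟨de, hde, rfl⟩ : ∃ de < 2, d = 4 * de := by
    rcases hd04 with rfl | rfl
    · exact ⟨0, by norm_num, rfl⟩
    · exact ⟨1, by norm_num, rfl⟩
  have R' : Rels al c de f a b X := ⟨R, Xf, Xa, Xb, by
    rw [← ed, phD, show 4 * de / 8 % 2 = 0 by omega, show 4 * de / 16 % 2 = 0 by omega,
      Nat.mod_eq_of_lt (show 4 * de < 8 by omega)]; simp⟩
  have pmem : ∀ n, ph f a b X n ∈ P := fun n => mul_mem (dmem _) (pow_mem hXP _)
  have pinj : ∀ p < 64, ∀ q < 64, ph f a b X p = ph f a b X q → p = q := by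
    intro p hp q hq e
    unfold ph at e
    rcases Nat.mod_two_eq_zero_or_one (p / 32) with hp2 | hp2 <;>
      rcases Nat.mod_two_eq_zero_or_one (q / 32) with hq2 | hq2 <;> rw [hp2, hq2] at e
    · simp only [pow_zero, mul_one] at e
      have := dinj _ (Nat.mod_lt _ (by norm_num)) _ (Nat.mod_lt _ (by norm_num)) e
      omega
    · exact absurd (by
        rw [show X = (phD f a b (q % 32))⁻¹ * phD f a b (p % 32) by simp_all [pow_one]]
        exact mul_mem (inv_mem (memD _)) (memD _)) hXD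
    · exact absurd (by
        rw [show X = (phD f a b (p % 32))⁻¹ * phD f a b (q % 32) by simp_all [pow_one, eq_inv_mul_iff_mul_eq]]
        exact mul_mem (inv_mem (memD _)) (memD _)) hXD
    · simp only [pow_one, mul_left_inj] at e
      have := dinj _ (Nat.mod_lt _ (by norm_num)) _ (Nat.mod_lt _ (by norm_num)) e
      omega
  refine ⟨⟨al, c, de, f, a, b, X, hal, hc, hde, R', pmem, pinj, fun y hy => ?_⟩⟩
  have hb : Function.Bijective fun n : Fin 64 => (⟨ph f a b X n, pmem n⟩ : P) := by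
    rw [Nat.bijective_iff_injective_and_card]
    exact ⟨fun p q e => Fin.ext (pinj _ p.2 _ q.2 (congrArg Subtype.val e)), by rw [Nat.card_fin, hP]⟩
  obtain ⟨n, hn⟩ := hb.2 ⟨y, hy⟩
  exact ⟨n, n.2, congrArg Subtype.val hn⟩

end Cfsg.Lib.SelfCentEight
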