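import Mathlib

/-!
# Groups of order 64 with an element of order eight which is its own centralizer and conjugate to its odd powers

Such a group has generators `F A B X` in one of eight normal forms, given by three bits.
-/

set_option autoImplicit false

namespace Cfsg.Lib.SelfCentEight

universe u

/-- The product in `⟨F, A, B⟩`, on exponents. -/
def mulD (al p q : ℕ) : ℕ :=
  (p % 8 + 7 ^ (p / 8 % 2) * 5 ^ (p / 16 % 2) * (q % 8) + 4 * al * ((p / 8 % 2) * (q / 8 % 2))) % 8 +
    8 * ((p / 8 % 2 + q / 8 % 2) % 2) + 16 * ((p / 16 % 2 + q / 16 % 2) % 2)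

/-- Powers in `⟨F, A, B⟩`. -/
def pw (al x : ℕ) : ℕ → ℕ
  | 0 => 0
  | n + 1 => mulD al (pw al x n) x

/-- Conjugation by `X`. -/
def sig (al c q : ℕ) : ℕ :=
  mulD al (mulD al (pw al 17 (q % 8)) (pw al (2 * c + 24) (q / 8 % 2))) (pw al 16 (q / 16 % 2))

/-- The product of the whole group, on exponents. -/
def mul64 (al c de p q : ℕ) : ℕ :=
  mulD al (mulD al (p % 32) (if p / 32 % 2 = 0 then q % 32 else sig al c (q % 32)))
      (4 * de * ((p / 32 % 2) * (q / 32 % 2))) + 32 * ((p / 32 % 2 + q / 32 % 2) % 2)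

variable {H : Type u} [Group H]

/-- The normal form of `⟨F, A, B⟩`. -/
def phD (F A B : H) (n : ℕ) : H := F ^ (n % 8) * A ^ (n / 8 % 2) * B ^ (n / 16 % 2)

/-- The normal form of the whole group. -/
def ph (F A B X : H) (n : ℕ) : H := phD F A B (n % 32) * X ^ (n / 32 % 2)

/-- The relations of the subgroup of index two. -/
structure RelsD (al : ℕ) (F A B : H) : Prop where
  f8 : F ^ 8 = 1
  af : A * F = F ^ 7 * A
  bf : B * F = F ^ 5 * B
  aa : A * A = F ^ (4 * al)
  bb : B * B = 1
  ab : A * B = B * A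

/-- The relations of the whole group. -/
structure Rels (al c de : ℕ) (F A B X : H) : Prop extends RelsD al F A B where
  xf : X * F = F * B * X
  xa : X * A = F ^ (2 * c) * A * B * X
  xb : X * B = B * X
  xx : X * X = F ^ (4 * de)

theorem mulD_lt (al p q : ℕ) : mulD al p q < 32 := by unfold mulD; omega

theorem pw_lt (al x n : ℕ) : pw al x n < 32 := by
  cases n
  · exact Nat.succ_pos _
  · exact mulD_lt _ _ _

theorem mul64_lt (al c de p q : ℕ) : mul64 al c de p q < 64 := by
  have h := mulD_lt al (mulD al (p % 32) (if p / 32 % 2 = 0 then q % 32 else sig al c (q % 32)))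
      (4 * de * ((p / 32 % 2) * (q / 32 % 2)))
  unfold mul64; omega

theorem pow_mod8 {F : H} (h : F ^ 8 = 1) (x : ℕ) : F ^ (x % 8) = F ^ x := by
  conv_rhs => rw [← Nat.mod_add_div x 8, pow_add, pow_mul, h, one_pow, mul_one]

theorem pow_move {B F : H} {k : ℕ} (h : B * F = F ^ k * B) (x : ℕ) : B * F ^ x = F ^ (k * x) * B := by
  induction x with
  | zero => simp
  | succ x ih => rw [pow_succ, ← mul_assoc, ih, mul_assoc, h, ← mul_assoc, ← pow_add, Nat.mul_succ]

namespace RelsD

variable {al : ℕ} {F A B : H} (R : RelsD al F A B)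
include R

theorem move_a (j x : ℕ) (hj : j < 2) : A ^ j * F ^ x = F ^ (7 ^ j * x) * A ^ j := by
  interval_cases j
  · simp
  · simpa using pow_move R.af x

theorem move_b (j x : ℕ) (hj : j < 2) : B ^ j * F ^ x = F ^ (5 ^ j * x) * B ^ j := by
  interval_cases j
  · simp
  · simpa using pow_move R.bf x

theorem mul_a (j m : ℕ) (hj : j < 2) (hm : m < 2) :
    A ^ j * A ^ m = F ^ (4 * al * (j * m)) * A ^ ((j + m) % 2) := by
  interval_cases j <;> interval_cases m <;> simp [R.aa]

theorem mul_b (j m : ℕ) (hj : j < 2) (hm : m < 2) : B ^ j * B ^ m = B ^ ((j + m) % 2) := by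
  interval_cases j <;> interval_cases m <;> simp [R.bb]

theorem phD_mul (p q : ℕ) : phD F A B (mulD al p q) = phD F A B p * phD F A B q := by
  set j := p / 8 % 2 with hj
  set k := p / 16 % 2 with hk
  set l := q % 8
  set m := q / 8 % 2 with hm
  set n := q / 16 % 2 with hn
  set x := p % 8 + 7 ^ j * 5 ^ k * l + 4 * al * (j * m)
  have hr : mulD al p q = x % 8 + 8 * ((j + m) % 2) + 16 * ((k + n) % 2) := rfl
  have h1 : mulD al p q % 8 = x % 8 := by omega
  have h2 : mulD al p q / 8 % 2 = (j + m) % 2 := by omega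
  have h3 : mulD al p q / 16 % 2 = (k + n) % 2 := by omega
  have hj2 : j < 2 := by omega
  have hk2 : k < 2 := by omega
  have hm2 : m < 2 := by omega
  have hn2 : n < 2 := by omega
  have hc : B ^ k * A ^ m = A ^ m * B ^ k := (Commute.pow_pow (show Commute B A from R.ab.symm) k m).eq
  show F ^ (mulD al p q % 8) * A ^ (mulD al p q / 8 % 2) * B ^ (mulD al p q / 16 % 2) =
    F ^ (p % 8) * A ^ j * B ^ k * (F ^ l * A ^ m * B ^ n)
  rw [h1, h2, h3, pow_mod8 R.f8]
  calc F ^ x * A ^ ((j + m) % 2) * B ^ ((k + n) % 2)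
      = F ^ (p % 8) * F ^ (7 ^ j * 5 ^ k * l) * (F ^ (4 * al * (j * m)) * A ^ ((j + m) % 2)) *
          B ^ ((k + n) % 2) := by simp only [x, pow_add, mul_assoc]
    _ = F ^ (p % 8) * (F ^ (7 ^ j * (5 ^ k * l)) * A ^ j) * A ^ m * (B ^ k * B ^ n) := by
      rw [← R.mul_a j m hj2 hm2, ← R.mul_b k n hk2 hn2, mul_assoc (7 ^ j)]; simp only [mul_assoc]
    _ = F ^ (p % 8) * A ^ j * (F ^ (5 ^ k * l) * (A ^ m * B ^ k)) * B ^ n := by
      rw [← R.move_a j _ hj2]; simp only [mul_assoc]
    _ = _ := by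
      rw [← hc, ← mul_assoc (F ^ (5 ^ k * l)), ← R.move_b k l hk2]; simp only [mul_assoc]

theorem phD_pw (x n : ℕ) : phD F A B (pw al x n) = phD F A B x ^ n := by
  induction n with
  | zero => simp [pw, phD]
  | succ n ih => rw [pw, R.phD_mul, ih, pow_succ]

end RelsD

section Values

variable (F A B : H)

theorem phD_one : phD F A B 1 = F := by simp [phD]
theorem phD_eight : phD F A B 8 = A := by simp [phD]
theorem phD_sixteen : phD F A B 16 = B := by simp [phD]
theorem phD_seventeen : phD F A B 17 = F * B := by simp [phD]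
theorem phD_xa {c : ℕ} (hc : c < 2) : phD F A B (2 * c + 24) = F ^ (2 * c) * A * B := by
  interval_cases c <;> simp [phD]

theorem phD_four {de t : ℕ} (hd : de < 2) (ht : t < 2) : phD F A B (4 * de * t) = F ^ (4 * de * t) := by
  interval_cases de <;> interval_cases t <;> simp [phD]

theorem ph_of_lt (X : H) {n : ℕ} (h : n < 32) : ph F A B X n = phD F A B n := by
  unfold ph
  rw [Nat.mod_eq_of_lt h, show n / 32 % 2 = 0 by omega, pow_zero, mul_one]

end Values

theorem Rels.sig_phD {al c de : ℕ} {F A B X : H} (R : Rels al c de F A B X) (hc : c < 2) (q : ℕ) :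
    X * phD F A B q = phD F A B (sig al c q) * X := by
  have h1 : X * phD F A B q * X⁻¹ = phD F A B (sig al c q) := by
    rw [sig, R.toRelsD.phD_mul, R.toRelsD.phD_mul, R.toRelsD.phD_pw, R.toRelsD.phD_pw, R.toRelsD.phD_pw,
      phD_seventeen, phD_xa F A B hc, phD_sixteen, phD, conj_mul.symm, conj_mul.symm, ← conj_pow, ← conj_pow,
      ← conj_pow, R.xf, R.xa, R.xb]
    simp only [mul_assoc, mul_inv_cancel, mul_one]
  exact mul_inv_eq_iff_eq_mul.1 h1

theorem Rels.ph_mul {al c de : ℕ} {F A B X : H} (R : Rels al c de F A B X) (hc : c < 2) (hd : de < 2)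
    (p q : ℕ) : ph F A B X (mul64 al c de p q) = ph F A B X p * ph F A B X q := by
  set e := p / 32 % 2 with he
  set e' := q / 32 % 2 with he'
  set r := mulD al (mulD al (p % 32) (if e = 0 then q % 32 else sig al c (q % 32))) (4 * de * (e * e')) with hr
  have hlt : r < 32 := mulD_lt _ _ _
  have hm : mul64 al c de p q = r + 32 * ((e + e') % 2) := rfl
  have h1 : mul64 al c de p q % 32 = r := by omega
  have h2 : mul64 al c de p q / 32 % 2 = (e + e') % 2 := by omega
  have he2 : e < 2 := by omega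
  have he2' : e' < 2 := by omega
  show phD F A B (mul64 al c de p q % 32) * X ^ (mul64 al c de p q / 32 % 2) =
    phD F A B (p % 32) * X ^ e * (phD F A B (q % 32) * X ^ e')
  rw [h1, h2, hr, R.toRelsD.phD_mul, R.toRelsD.phD_mul,
    phD_four F A B hd (show e * e' < 2 by interval_cases e <;> interval_cases e' <;> norm_num)]
  interval_cases e <;> interval_cases e' <;>
    simp [mul_assoc, R.sig_phD hc, ← R.xx]
  rw [← mul_assoc X, R.sig_phD hc, mul_assoc]

end Cfsg.Lib.SelfCentEight
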