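import Cfsg.Agent.SelfCentEight.Check
import Cfsg.Agent.LenSeven.Site
import Cfsg.Agent.Transfer.Fusion
import Cfsg.Agent.Fusion.NormalCriteria

/-!
# Soundness of the certificates: no simple group has a Sylow 2-subgroup with a certified table
-/

set_option autoImplicit false
set_option linter.style.haveILetI false
set_option linter.unusedSectionVars false

namespace Cfsg.Lib.SelfCentEight

open Subgroup Cfsg Cfsg.FusionSystem Cfsg.Lib.Fusion Cfsg.Lib.LenSeven

universe u

variable {G : Type u} [Group G]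

/-- A table for a subgroup of order 64. -/
structure Tab (P : Subgroup G) where
  T : ℕ → ℕ
  I : ℕ
  φ : ℕ → G
  mem : ∀ i, φ i ∈ P
  inj : ∀ i < 64, ∀ j < 64, φ i = φ j → i = j
  surj : ∀ y ∈ P, ∃ i < 64, φ i = y
  mul : ∀ i < 64, ∀ j < 64, φ (tm T i j) = φ i * φ j
  one : φ 0 = 1
  inv : invOk T I = true

namespace Tab

variable {P : Subgroup G} (t : Tab P)

theorem eq_one {i : ℕ} (hi : i < 64) (h : t.φ i = 1) : i = 0 :=
  t.inj i hi 0 (by norm_num) (h.trans t.one.symm)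

theorem phi_iv {i : ℕ} (hi : i < 64) : t.φ (iv t.I i) = (t.φ i)⁻¹ := by
  have h0 := List.all_eq_true.1 t.inv i (List.mem_range.2 hi)
  rw [beq_iff_eq] at h0
  have h1 := t.mul i hi _ (iv_lt t.I i)
  rw [h0, t.one] at h1
  exact (inv_eq_of_mul_eq_one_right h1.symm).symm

theorem phi_cj {g h : ℕ} (hg : g < 64) (hh : h < 64) :
    t.φ (cj t.T t.I g h) = t.φ g * t.φ h * (t.φ g)⁻¹ := by
  rw [cj, t.mul _ (tm_lt _ _ _) _ (iv_lt _ _), t.mul g hg h hh, t.phi_iv hg]

theorem tm_eq_iff {i j k : ℕ} (hi : i < 64) (hj : j < 64) (hk : k < 64) :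
    tm t.T i j = k ↔ t.φ i * t.φ j = t.φ k :=
  ⟨fun h => by rw [← t.mul i hi j hj, h], fun h => t.inj _ (tm_lt _ _ _) k hk ((t.mul i hi j hj).trans h)⟩

theorem comm_iff {i j : ℕ} (hi : i < 64) (hj : j < 64) :
    tm t.T i j = tm t.T j i ↔ t.φ i * t.φ j = t.φ j * t.φ i := by
  rw [t.tm_eq_iff hi hj (tm_lt _ _ _), t.mul j hj i hi]

/-- A mask describes a subgroup. -/
def Rep (m : ℕ) (U : Subgroup G) : Prop := ∀ i < 64, (m.testBit i = true ↔ t.φ i ∈ U)

theorem card_eq {Q : Subgroup G} (hQ : Q ≤ P) {m : ℕ} (hm : t.Rep m Q) :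
    Nat.card Q = (members m).length := by
  let e : {i // i ∈ members m} → Q := fun i =>
    ⟨t.φ i, (hm i (mem_members.1 i.2).1).1 (mem_members.1 i.2).2⟩
  have he : Function.Bijective e := by
    refine ⟨fun a b h => Subtype.ext (t.inj _ (mem_members.1 a.2).1 _ (mem_members.1 b.2).1 (congrArg Subtype.val h)),
      fun y => ?_⟩
    obtain ⟨i, hi, hy⟩ := t.surj y (hQ y.2)
    exact ⟨⟨i, mem_members.2 ⟨hi, (hm i hi).2 (hy.symm ▸ y.2)⟩⟩, Subtype.ext hy⟩
  rw [← Nat.card_congr (Equiv.ofBijective e he)]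
  classical
  rw [Nat.card_eq_fintype_card, Fintype.card_of_subtype (members m).toFinset (fun i => List.mem_toFinset)]
  exact List.toFinset_card_of_nodup (nodup_members m)

/-- The list contains the mask of every subgroup. -/
theorem exists_rep [Finite G] (hP : IsPGroup 2 P) {L : List Cert} (hL : listOk t.T L = true) (U : Subgroup G)
    (hU : U ≤ P) : ∃ c ∈ L, t.Rep c.mask U := by
  classical
  haveI : Fact (Nat.Prime 2) := ⟨Nat.prime_two⟩
  simp only [listOk, Bool.and_eq_true, List.all_eq_true, List.contains_iff_mem, List.mem_range, Bool.or_eq_true,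
    Bool.not_eq_true', List.any_eq_true, decide_eq_true_eq, beq_iff_eq] at hL
  obtain ⟨k, hk⟩ := IsPGroup.iff_card.1 (hP.to_le hU)
  induction k generalizing U with
  | zero =>
    obtain ⟨c, hc, hc1⟩ := List.mem_map.1 hL.1
    refine ⟨c, hc, fun i hi => ?_⟩
    rw [hc1]
    rw [pow_zero] at hk
    rw [U.eq_bot_of_card_eq hk, mem_bot]
    rcases eq_or_ne i 0 with rfl | h
    · simp [t.one]
    · simp only [Nat.testBit_one_eq_true_iff_self_eq_zero]
      exact ⟨fun e => absurd e h, fun e => t.eq_one hi e⟩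
  | succ k ih =>
    obtain ⟨M', hM'⟩ := Sylow.exists_subgroup_card_pow_prime (G := U) 2
      (show 2 ^ k ∣ Nat.card U from hk ▸ pow_dvd_pow 2 (Nat.le_succ k))
    have hidx : M'.index = 2 := by
      have h := M'.card_mul_index
      rw [hM', hk, pow_succ] at h
      exact Nat.eq_of_mul_eq_mul_left (by positivity) h
    have hn := normal_of_index_eq_two hidx
    set M := M'.map U.subtype with hM
    have hMU : M ≤ U := map_subtype_le M'
    have hMc : Nat.card M = 2 ^ k := by rw [card_map_of_injective (subtype_injective U), hM']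
    obtain ⟨c, hmL, hm⟩ := ih M (hMU.trans hU) hMc
    set m := c.mask with hmdef
    have memM : ∀ u : U, (u : G) ∈ M ↔ u ∈ M' := fun u => mem_map_iff_mem (subtype_injective U)
    obtain ⟨u, hu⟩ : ∃ u : U, u ∉ M' := by
      by_contra h
      push Not at h
      rw [(eq_top_iff' M').2 h, index_top] at hidx
      omega
    obtain ⟨g, hg, hgu⟩ := t.surj u (hU u.2)
    have hsq : tm t.T g g < 64 := tm_lt _ _ _
    have hgg : t.φ (tm t.T g g) ∈ M := by
      rw [t.mul g hg g hg, hgu, ← Subgroup.coe_mul, memM]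
      exact mul_self_mem_of_index_two hidx u
    rcases (hL.2 c hmL).2 g hg with ((h | h) | ⟨h, hh, h'⟩) | ⟨⟨g₀, K⟩, hx, hxg⟩
    · exact absurd ((memM u).1 (hgu ▸ (hm g hg).1 h)) hu
    · rw [(hm _ hsq).2 hgg] at h
      exact Bool.noConfusion h
    · obtain ⟨hh64, hhm⟩ := mem_members.1 hh
      have hhM := (hm h hh64).1 hhm
      refine absurd h' ?_
      rw [Bool.not_eq_false, hm _ (tm_lt _ _ _), t.mul _ (tm_lt _ _ _) g hg, t.mul g hg h hh64, hgu]
      rw [show (t.φ h) = ((⟨t.φ h, hMU hhM⟩ : U) : G) from rfl, ← Subgroup.coe_mul, ← Subgroup.coe_mul, memM]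
      have h1 := hn.conj_mem _ ((memM ⟨t.φ h, hMU hhM⟩).1 hhM) u
      have h2 := M'.mul_mem h1 (mul_self_mem_of_index_two hidx u)
      rwa [show u * ⟨t.φ h, hMU hhM⟩ * u⁻¹ * (u * u) = u * ⟨t.φ h, hMU hhM⟩ * u by group] at h2
    · obtain ⟨⟨hg₀, hK⟩, hKL⟩ := (hL.2 c hmL).1 _ hx
      obtain ⟨d, hd, hdK⟩ := List.mem_map.1 hKL
      -- `g₀` is another representative of the coset
      have hgM : t.φ g ∉ M := fun e => hu ((memM u).1 (hgu ▸ e))
      rw [show K = cosMask t.T m g₀ from hK, cosMask, testBit_maskOf] at hxg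
      simp only [hg, decide_true, Bool.true_and, Bool.or_eq_true, hm g hg, hm _ (tm_lt _ _ _), hgM, false_or] at hxg
      rw [t.mul g hg g₀ hg₀, hgu] at hxg
      have hgU : t.φ g₀ ∈ U := by simpa using U.mul_mem (U.inv_mem u.2) (hMU hxg)
      obtain ⟨v, hv⟩ : ∃ v : U, (v : G) = t.φ g₀ := ⟨⟨_, hgU⟩, rfl⟩
      have hv' : v ∉ M' := fun e => hu ((M'.mul_mem_cancel_right e).1 ((memM _).1 (by
        rw [Subgroup.coe_mul, hv]; exact hxg)))
      refine ⟨d, hd, fun i hi => ?_⟩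
      rw [hdK, show K = cosMask t.T m g₀ from hK, cosMask, testBit_maskOf]
      simp only [hi, decide_true, Bool.true_and, Bool.or_eq_true, hm i hi, hm _ (tm_lt _ _ _)]
      rw [t.mul i hi g₀ hg₀, ← hv]
      constructor
      · rintro (h1 | h1)
        · exact hMU h1
        · simpa using U.mul_mem (hMU h1) (U.inv_mem v.2)
      · intro h1
        by_cases h2 : (⟨t.φ i, h1⟩ : U) ∈ M'
        · exact Or.inl ((memM ⟨_, h1⟩).2 h2)
        · refine Or.inr ?_
          rw [show t.φ i * (v : G) = ((⟨t.φ i, h1⟩ * v : U) : G) from rfl, memM, mul_mem_iff_of_index_two hidx]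
          exact iff_of_false h2 hv'

/-- The parity of an element. -/
def Par (E : ℕ) (y : G) : Prop := ∃ i < 64, t.φ i = y ∧ E.testBit i = true

variable {E : ℕ}

theorem par_phi {i : ℕ} (hi : i < 64) : t.Par E (t.φ i) ↔ E.testBit i = true :=
  ⟨fun ⟨_, hj, e, h⟩ => t.inj _ hj i hi e ▸ h, fun h => ⟨i, hi, rfl, h⟩⟩

theorem par_one (hE : parityOk t.T E = true) : t.Par E 1 := by
  simp only [parityOk, Bool.and_eq_true] at hE
  exact ⟨0, by norm_num, t.one, hE.1.1⟩

theorem par_mul (hE : parityOk t.T E = true) {x y : G} (hx : x ∈ P) (hy : y ∈ P) :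
    t.Par E (x * y) ↔ (t.Par E x ↔ t.Par E y) := by
  simp only [parityOk, Bool.and_eq_true, List.all_eq_true, List.mem_range, beq_iff_eq] at hE
  obtain ⟨i, hi, rfl⟩ := t.surj x hx
  obtain ⟨j, hj, rfl⟩ := t.surj y hy
  rw [← t.mul i hi j hj, t.par_phi (tm_lt _ _ _), t.par_phi hi, t.par_phi hj, hE.2 i hi j hj]
  cases E.testBit i <;> cases E.testBit j <;> simp

theorem par_inv (hE : parityOk t.T E = true) {x : G} (hx : x ∈ P) : t.Par E x⁻¹ ↔ t.Par E x := by
  have h := t.par_mul hE hx (inv_mem hx)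
  rw [mul_inv_cancel] at h
  exact (h.1 (t.par_one hE)).symm

theorem par_conj (hE : parityOk t.T E = true) {g x : G} (hg : g ∈ P) (hx : x ∈ P) :
    t.Par E (g * x * g⁻¹) ↔ t.Par E x := by
  rw [t.par_mul hE (mul_mem hg hx) (inv_mem hg), t.par_mul hE hg hx, t.par_inv hE hg]
  tauto

/-- A map does not change the parity. -/
def Good (E : ℕ) (Q : Subgroup G) (f : G → G) : Prop := ∀ x ∈ Q, (t.Par E (f x) ↔ t.Par E x)

theorem isMapClass (hE : parityOk t.T E = true) :
    IsMapClass (groupFusionSystem P) (t.Good E) where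
  conj Q g hQ hg x hx := t.par_conj hE hg (hQ hx)
  congr Q f f' _ e h x hx := by rw [e x hx]; exact h x hx
  mono Q R f _ hR h x hx := h x (hR hx)
  comp Q R f g _ _ hfR hf hg x hx := (hg (f x) (hfR x hx)).trans (hf x hx)
  inv Q f g hf _ hl h := by
    intro y hy
    obtain ⟨x, hx, rfl⟩ := hf.mem_img.mp hy
    rw [hl x hx]
    exact (h x hx).symm

/-- An automorphism on the masks. -/
theorem exists_perm {Q : Subgroup G} (hQ : Q ≤ P) {m : ℕ} (hm : t.Rep m Q) (α : MulAut Q) :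
    ∃ π : ℕ → ℕ, (∀ i ∈ members m, π i ∈ members m ∧ ∀ h : t.φ i ∈ Q, t.φ (π i) = (α ⟨t.φ i, h⟩ : Q)) ∧
      ((members m).map π).Perm (members m) ∧
      (∀ i ∈ members m, ∀ j ∈ members m, π (tm t.T i j) = tm t.T (π i) (π j) ∧ tm t.T i j ∈ members m) ∧
      (∀ i ∈ members m, ∀ j ∈ members m, π i = π j → i = j) := by
  classical
  have hQi : ∀ i ∈ members m, t.φ i ∈ Q := fun i hi => (hm i (mem_members.1 hi).1).1 (mem_members.1 hi).2
  have hex : ∀ y : Q, ∃ i ∈ members m, t.φ i = y := fun y => by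
    obtain ⟨i, hi, e⟩ := t.surj y (hQ y.2)
    exact ⟨i, mem_members.2 ⟨hi, (hm i hi).2 (e ▸ y.2)⟩, e⟩
  choose idx hidx hφ using hex
  let π : ℕ → ℕ := fun i => if h : t.φ i ∈ Q then idx (α ⟨t.φ i, h⟩) else 0
  have hπ : ∀ i ∈ members m, π i ∈ members m ∧ ∀ h : t.φ i ∈ Q, t.φ (π i) = (α ⟨t.φ i, h⟩ : Q) := fun i hi => by
    simp only [π, dif_pos (hQi i hi)]
    exact ⟨hidx _, fun h => hφ _⟩
  have lt : ∀ i ∈ members m, i < 64 := fun i hi => (mem_members.1 hi).1
  have hinj : ∀ i ∈ members m, ∀ j ∈ members m, π i = π j → i = j := fun i hi j hj e => by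
    refine t.inj i (lt i hi) j (lt j hj) (congrArg Subtype.val (α.injective (Subtype.ext ?_ :
      α ⟨t.φ i, hQi i hi⟩ = α ⟨t.φ j, hQi j hj⟩)))
    rw [← (hπ i hi).2, ← (hπ j hj).2, e]
  refine ⟨π, hπ, ?_, fun i hi j hj => ?_, hinj⟩
  · refine (List.perm_ext_iff_of_nodup ((nodup_members m).map_on hinj) (nodup_members m)).2 fun k => ?_
    refine ⟨fun hk => ?_, fun hk => ?_⟩
    · obtain ⟨i, hi, rfl⟩ := List.mem_map.1 hk
      exact (hπ i hi).1
    · refine List.mem_map.2 ⟨idx (α.symm ⟨t.φ k, hQi k hk⟩), hidx _, t.inj _ (lt _ (hπ _ (hidx _)).1) k (lt k hk) ?_⟩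
      rw [(hπ _ (hidx _)).2 (hQi _ (hidx _))]
      simp [hφ]
  · have hij : tm t.T i j ∈ members m := mem_members.2 ⟨tm_lt _ _ _, (hm _ (tm_lt _ _ _)).2 (by
      rw [t.mul i (lt i hi) j (lt j hj)]; exact mul_mem (hQi i hi) (hQi j hj))⟩
    refine ⟨t.inj _ (lt _ (hπ _ hij).1) _ (tm_lt _ _ _) ?_, hij⟩
    rw [(hπ _ hij).2 (hQi _ hij), t.mul _ (lt _ (hπ i hi).1) _ (lt _ (hπ j hj).1), (hπ i hi).2 (hQi i hi),
      (hπ j hj).2 (hQi j hj), ← Subgroup.coe_mul, ← map_mul]
    congr 2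
    exact Subtype.ext (t.mul i (lt i hi) j (lt j hj))

end Tab

theorem countP_perm {l : List ℕ} {π : ℕ → ℕ} (hp : (l.map π).Perm l) (p : ℕ → Bool) :
    l.countP (fun h => p (π h)) = l.countP p := by
  rw [← hp.countP_eq p, List.countP_map]; rfl

theorem sum_perm {l : List ℕ} {π : ℕ → ℕ} (hp : (l.map π).Perm l) (p : ℕ → Bool) (w : ℕ → ℕ) :
    ((l.filter fun h => p (π h)).map fun h => w (π h)).sum = ((l.filter p).map w).sum := by
  rw [← ((hp.filter p).map w).sum_eq, List.filter_map, List.map_map]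
  rfl

namespace Tab

variable {P : Subgroup G} (t : Tab P)

/-- The colours are invariant under the automorphisms. -/
theorem val_invariant {Q : Subgroup G} (hQ : Q ≤ P) {c : Cert} (hm : t.Rep c.mask Q) (hc : colOk t.T c = true)
    (α : MulAut Q) {i : ℕ} (hi : i ∈ members c.mask) {j : ℕ} (hj : j ∈ members c.mask)
    (hij : ∀ h : t.φ i ∈ Q, t.φ j = (α ⟨t.φ i, h⟩ : Q)) : col t.T c j = col t.T c i := by
  obtain ⟨π, hπ, hp, hmul, hinj⟩ := t.exists_perm hQ hm α
  set l := members c.mask with hl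
  have lt : ∀ i ∈ l, i < 64 := fun i hi => (mem_members.1 hi).1
  have hQi : ∀ i ∈ l, t.φ i ∈ Q := fun i hi => (hm i (lt i hi)).1 (mem_members.1 hi).2
  obtain rfl : j = π i := t.inj j (lt j hj) _ (lt _ (hπ i hi).1)
    ((hij (hQi i hi)).trans ((hπ i hi).2 (hQi i hi)).symm)
  have h0 : ∀ k ∈ l, π k ∈ l := fun k hk => (hπ k hk).1
  have z0 : (0 : ℕ) ∈ l := mem_members.2 ⟨by norm_num, (hm 0 (by norm_num)).2 (t.one ▸ one_mem Q)⟩
  have pz : π 0 = 0 := t.eq_one (lt _ (h0 0 z0)) (by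
    rw [(hπ 0 z0).2 (hQi 0 z0), show (⟨t.φ 0, hQi 0 z0⟩ : Q) = 1 from Subtype.ext t.one, map_one]; rfl)
  have sq0 : ∀ k ∈ l, (tm t.T (π k) (π k) = 0 ↔ tm t.T k k = 0) := fun k hk => by
    rw [← (hmul k hk k hk).1]
    exact ⟨fun e => hinj _ (hmul k hk k hk).2 0 z0 (e.trans pz.symm), fun e => by rw [e, pz]⟩
  have root : ∀ a ∈ l, ∀ h ∈ l, (tm t.T (π h) (π h) == π a) = (tm t.T h h == a) := fun a ha h hh => by
    rw [← (hmul h hh h hh).1, Bool.eq_iff_iff, beq_iff_eq, beq_iff_eq]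
    exact ⟨hinj _ (hmul h hh h hh).2 a ha, fun e => by rw [e]⟩
  have comm : ∀ a ∈ l, ∀ h ∈ l, (tm t.T (π a) (π h) == tm t.T (π h) (π a)) = (tm t.T a h == tm t.T h a) :=
      fun a ha h hh => by
    rw [← (hmul a ha h hh).1, ← (hmul h hh a ha).1, Bool.eq_iff_iff, beq_iff_eq, beq_iff_eq]
    exact ⟨hinj _ (hmul a ha h hh).2 _ (hmul h hh a ha).2, fun e => by rw [e]⟩
  have c0 : ∀ a ∈ l, col0 t.T l (π a) = col0 t.T l a := fun a ha => by
    unfold col0
    rw [← countP_perm hp (fun h => tm t.T h h == π a), ← countP_perm hp (fun h => tm t.T (π a) h == tm t.T h (π a)),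
      List.countP_congr (p := fun h => tm t.T (π h) (π h) == π a) (q := fun h => tm t.T h h == a)
        (fun h hh => by rw [root a ha h hh]),
      List.countP_congr (p := fun h => tm t.T (π a) (π h) == tm t.T (π h) (π a))
        (q := fun h => tm t.T a h == tm t.T h a) (fun h hh => by rw [comm a ha h hh]),
      if_congr (sq0 a ha) rfl rfl]
  unfold col
  rw [← hl]
  split_ifs with hb
  · exact c0 i hi
  simp only [colOk, Bool.and_eq_true, Bool.or_eq_true, beq_iff_eq, List.all_eq_true, ← hl, hb, false_or] at hc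
  have cu : ∀ a ∈ l, unp c.base (π a) = unp c.base a := fun a ha => by rw [hc.1 _ (h0 a ha), hc.1 a ha, c0 a ha]
  unfold col1
  rw [← sum_perm hp (fun h => tm t.T h h == π i) (fun h => wt (unp c.base h)),
    ← sum_perm hp (fun h => tm t.T (π i) h == tm t.T h (π i))
      (fun h => wt (unp c.base h + 5 * unp c.base (tm t.T (π i) h)))]
  have e1 : l.filter (fun h => tm t.T (π h) (π h) == π i) = l.filter (fun h => tm t.T h h == i) :=
    List.filter_congr fun h hh => root i hi h hh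
  have e2 : l.filter (fun h => tm t.T (π i) (π h) == tm t.T (π h) (π i)) =
      l.filter (fun h => tm t.T i h == tm t.T h i) := List.filter_congr fun h hh => comm i hi h hh
  rw [e1, e2, cu i hi, ← (hmul i hi i hi).1, cu _ (hmul i hi i hi).2,
    List.map_congr_left (f := fun h => wt (unp c.base (π h))) (g := fun h => wt (unp c.base h))
      (fun h hh => by rw [cu h (List.mem_of_mem_filter hh)]),
    List.map_congr_left (f := fun h => wt (unp c.base (π h) + 5 * unp c.base (tm t.T (π i) (π h))))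
      (g := fun h => wt (unp c.base h + 5 * unp c.base (tm t.T i h)))
      (fun h hh => by
        have hh' := List.mem_of_mem_filter hh
        rw [cu h hh', ← (hmul i hi h hh').1, cu _ (hmul i hi h hh').2])]

/-- A separated mask is invariant. -/
theorem sep_invariant {Q : Subgroup G} (hQ : Q ≤ P) {c : Cert} (hm : t.Rep c.mask Q) (hc : colOk t.T c = true)
    {K : ℕ} (hK : sep c K = true) (α : MulAut Q) {i j : ℕ} (hi : i ∈ members c.mask) (hj : j ∈ members c.mask)
    (hij : ∀ h : t.φ i ∈ Q, t.φ j = (α ⟨t.φ i, h⟩ : Q)) : K.testBit j = K.testBit i := by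
  have hv := t.val_invariant hQ hm hc α hi hj hij
  simp only [colOk, Bool.and_eq_true, beq_iff_eq] at hc
  simp only [sep, ← hc.2, List.all_eq_true, Bool.or_eq_true, beq_iff_eq, Bool.not_eq_true', beq_eq_false_iff_ne] at hK
  have hmem : ∀ k ∈ members c.mask, (k, col t.T c k) ∈ (members c.mask).zip ((members c.mask).map (col t.T c)) := by
    intro k hk
    conv in (List.zip _ _) => arg 1; rw [← List.map_id (members c.mask)]
    rw [List.zip_map']
    exact List.mem_map.2 ⟨k, hk, rfl⟩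
  exact (hK _ (hmem j hj) _ (hmem i hi)).resolve_right fun h => h hv

end Tab

end Cfsg.Lib.SelfCentEight
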